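import Cfsg.Agent.Lib.Lead.ReeTor.QuarterA
import Mathlib

/-!
# Small Ree groups: involutions, the `s`-part for `s ∣ q + 1`, elements of order `3` (lead)
-/

set_option autoImplicit false
set_option maxRecDepth 100000

namespace Cfsg.Agent.ReeTor

open Cfsg.Lie Cfsg.Agent.Lib.Helper5.Chev Cfsg.Agent.Lib.Helper5.GA Cfsg.Agent.Lib.Helper5.Tw
open Cfsg.Agent.Lib.Helper5.Frob Cfsg.Agent.Lib.Helper5.SL2P Cfsg.Agent.Lib.Helper5.Ree
open Cfsg.Agent.ReeL Cfsg.Agent.Lib.Helper8.ReeSyl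
open scoped Pointwise

section

variable {K : Type*} [Field K] [Fintype K] [CharP K 3] {m : ℕ}

/-- the `s`-part of the order of the small Ree group, `s ∣ q + 1` -/
theorem fact_quarter (hK : Fintype.card K = 3 ^ (2 * m + 1)) (s : ℕ) [Fact s.Prime] (hs3 : 3 < s)
    (hsd : s ∣ 3 ^ (2 * m + 1) + 1) :
    (Nat.card ↥(twistedG2 K (3 ^ m))).factorization s
      = (Nat.card ↥(Subgroup.centralizer ({aG K m} : Set ↥(twistedG2 K (3 ^ m))))).factorization s := by
  classical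
  have hpp : s.Prime := Fact.out
  have hcard := card_twisted hK
  have haH : ((aG K m : ↥(twistedG2 K (3 ^ m))) : GL chevG2.Idx K) ∈ chevG2.diagonalSubgroup K :=
    zz_mem_diag
  obtain ⟨e⟩ := cent_iso hK (aG K m) haH (aG_ne_one hK) aG_sq
  have hHcard : Nat.card ↥(Subgroup.centralizer ({aG K m} : Set ↥(twistedG2 K (3 ^ m))))
      = 2 * Nat.card (Matrix.ProjectiveSpecialLinearGroup (Fin 2) K) := by
    rw [Nat.card_congr e.toEquiv, Nat.card_prod]
    congr 1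
    simp
  rw [hHcard, hcard]
  have hSL := Cfsg.Agent.Lib.Helper8.FourOrb.card_sl2 (F := K) (Fintype.card K) (by
    rw [hK]
    calc 2 ≤ 3 ^ 1 := by norm_num
      _ ≤ 3 ^ (2 * m + 1) := Nat.pow_le_pow_right (by norm_num) (by omega)) rfl
  rw [hK] at hSL
  generalize hq : 3 ^ (2 * m + 1) = q at hsd hSL ⊢
  have hq3 : 3 ≤ q := by
    rw [← hq]
    calc 3 = 3 ^ 1 := by norm_num
      _ ≤ 3 ^ (2 * m + 1) := Nat.pow_le_pow_right (by norm_num) (by omega)
  have hq1 : 1 ≤ q := by omega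
  have hpq : ¬ s ∣ q := by
    intro h
    rw [← hq] at h
    have := Nat.le_of_dvd (by norm_num) (hpp.dvd_of_dvd_pow h)
    omega
  have hq30 : q ^ 3 ≠ 0 := by positivity
  have hqm0 : q - 1 ≠ 0 := by omega
  have hqc0 : q ^ 3 + 1 ≠ 0 := by positivity
  have hqs0 : q + 1 ≠ 0 := by omega
  have hqq0 : q * (q - 1) + 1 ≠ 0 := by omega
  have hx : (q : ZMod s) = -1 := (dvd_succ_iff q).1 hsd
  have hp1 : ¬ s ∣ q - 1 := by
    rw [dvd_pred_iff q hq1, hx]
    intro h'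
    apply zmod_two_ne hs3
    linear_combination -h'
  have hnC : ¬ s ∣ q * (q - 1) + 1 := by
    rw [dvd_quad_iff q hq1, hx]
    intro h'
    apply zmod_three_ne hs3
    linear_combination h'
  have hP0 : Nat.card (Matrix.ProjectiveSpecialLinearGroup (Fin 2) K) ≠ 0 := Nat.card_pos.ne'
  have hn2 : ¬ s ∣ 2 := fun h' => by
    have := Nat.le_of_dvd (by norm_num) h'
    omega
  have hnqq : ¬ s ∣ q * (q - 1) := fun h' => by
    rcases hpp.dvd_mul.1 h' with h'' | h''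
    · exact hpq h''
    · exact hp1 h''
  rw [fact_mul_left (by norm_num) hP0 hn2, fact_psl2 K s (by omega), hSL,
    fact_mul_right hqs0 (mul_ne_zero (by omega) hqm0) hnqq, cube_succ q hq1,
    fact_mul_left (mul_ne_zero hq30 hqm0) (mul_ne_zero hqs0 hqq0)
      (fun h' => by
        rcases hpp.dvd_mul.1 h' with h'' | h''
        · exact hpq (hpp.dvd_of_dvd_pow h'')
        · exact hp1 h''),
    fact_mul_right hqs0 hqq0 hnC]


/-- all involutions of the small Ree group are conjugate -/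
theorem invol_conj (hK : Fintype.card K = 3 ^ (2 * m + 1)) (hm : 1 ≤ m)
    (v : ↥(twistedG2 K (3 ^ m))) (hv : v * v = 1) (hv1 : v ≠ 1) :
    ∃ g : ↥(twistedG2 K (3 ^ m)), v = g * aG K m * g⁻¹ := by
  have hfin := Cfsg.Agent.ReeL.finite_twisted (K := K) (m := m) hK
  have : Fact (Nat.Prime 2) := ⟨Nat.prime_two⟩
  obtain ⟨k, hk, hcard⟩ := card_twisted_eight (K := K) (m := m) hK
  have hE := (E8_spec hK).1
  have hP : IsPGroup 2 (E8 K m) := IsPGroup.of_card (n := 3) (by rw [hE]; norm_num)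
  have hidx : (E8 K m).index = k := by
    have h1 := Subgroup.card_mul_index (E8 K m)
    rw [hE, hcard] at h1
    exact Nat.eq_of_mul_eq_mul_left (by norm_num) h1
  have hidx2 : ¬ 2 ∣ (E8 K m).index := by
    rw [hidx]
    intro h
    exact (Nat.not_even_iff_odd.2 hk) (even_iff_two_dvd.2 h)
  have hvo : orderOf v = 2 := orderOf_eq_prime (by rw [pow_two]; exact hv) hv1
  obtain ⟨R, hR⟩ := (isPGroup_zpowers_of_orderOf 2 v hvo).exists_le_sylow
  obtain ⟨g, hg⟩ := MulAction.exists_smul_eq ↥(twistedG2 K (3 ^ m)) (hP.toSylow hidx2) R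
  have hvR : v ∈ (R : Subgroup ↥(twistedG2 K (3 ^ m))) := hR (Subgroup.mem_zpowers v)
  have hw : g⁻¹ * v * g ∈ E8 K m := by
    have h1 : v ∈ MulAut.conj g • (E8 K m) := by
      rw [← hg] at hvR
      exact hvR
    rwa [Subgroup.mem_pointwise_smul_iff_inv_smul_mem, MulAut.smul_def, MulAut.conj_inv_apply]
      at h1
  have hw1 : g⁻¹ * v * g ≠ 1 := by
    intro h
    apply hv1
    have : v = g * (g⁻¹ * v * g) * g⁻¹ := by group
    rw [this, h]
    group
  -- the orbit of `a` under `N(E)`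
  have horb := card_conj_orbit (N8 K m) (aG K m)
  rw [card_N8 hK hm, card_H2 hK] at horb
  have h7 : Set.ncard {y | ∃ h ∈ N8 K m, y = h * aG K m * h⁻¹} = 7 := by omega
  have hsub : {y | ∃ h ∈ N8 K m, y = h * aG K m * h⁻¹}
      ⊆ (E8 K m : Set ↥(twistedG2 K (3 ^ m))) \ {1} := by
    rintro y ⟨h, hh, rfl⟩
    refine ⟨N8_conj_mem hh aG_mem, ?_⟩
    intro e
    rw [Set.mem_singleton_iff] at e
    apply aG_ne_one (K := K) (m := m) hK
    have : aG K m = h⁻¹ * (h * aG K m * h⁻¹) * h := by group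
    rw [this, e]
    group
  have hn7 : Set.ncard ((E8 K m : Set ↥(twistedG2 K (3 ^ m))) \ {1}) = 7 := by
    rw [Set.ncard_sdiff_singleton_of_mem (Subgroup.one_mem _), ← Nat.card_coe_set_eq]
    have : Nat.card ↥((E8 K m : Set ↥(twistedG2 K (3 ^ m)))) = 8 := hE
    rw [this]
  have hO : {y | ∃ h ∈ N8 K m, y = h * aG K m * h⁻¹}
      = (E8 K m : Set ↥(twistedG2 K (3 ^ m))) \ {1} :=
    Set.eq_of_subset_of_ncard_le hsub (by rw [h7, hn7]) (Set.toFinite _)
  have hwO : g⁻¹ * v * g ∈ {y | ∃ h ∈ N8 K m, y = h * aG K m * h⁻¹} := by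
    rw [hO]
    exact ⟨hw, hw1⟩
  obtain ⟨h, -, hh⟩ := hwO
  refine ⟨g * h, ?_⟩
  have : v = g * (g⁻¹ * v * g) * g⁻¹ := by group
  rw [this, hh]
  group


/-- the order of `B¹` -/
theorem card_B1 (hK : Fintype.card K = 3 ^ (2 * m + 1)) :
    Nat.card (B1 K m) = (3 ^ (2 * m + 1)) ^ 3 * (3 ^ (2 * m + 1) - 1) := by
  have hUB : chevG2.posUnipotent K ≤ chevG2.borelSubgroup K := le_sup_left
  have hHB : chevG2.diagonalSubgroup K ≤ chevG2.borelSubgroup K := le_sup_right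
  let f : ↥(chevG2.posUnipotent K ⊓ twistedG2 K (3 ^ m)) ×
      ↥(chevG2.diagonalSubgroup K ⊓ twistedG2 K (3 ^ m)) → ↥(B1 K m) := fun p =>
    ⟨⟨(p.1 : GL chevG2.Idx K) * (p.2 : GL chevG2.Idx K), Subgroup.mul_mem _ p.1.2.2 p.2.2.2⟩,
      (mem_B1 _).2 (Subgroup.mul_mem _ (hUB p.1.2.1) (hHB p.2.2.1))⟩
  have hf : Function.Bijective f := by
    constructor
    · rintro ⟨u, h⟩ ⟨v, k⟩ e
      have e' : (u : GL chevG2.Idx K) * (h : GL chevG2.Idx K)
          = (v : GL chevG2.Idx K) * (k : GL chevG2.Idx K) :=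
        congrArg (fun x : ↥(B1 K m) => ((x : ↥(twistedG2 K (3 ^ m))) : GL chevG2.Idx K)) e
      obtain ⟨e1, e2⟩ := borel_mul_unique hD2 _ _ _ _ u.2.1 v.2.1 h.2.1 k.2.1 e'
      rw [Subtype.ext e1, Subtype.ext e2]
    · rintro ⟨b, hb⟩
      obtain ⟨u, hu, h, hh, e⟩ := B1_eq_mul hK b hb
      rw [mem_UU1] at hu
      rw [mem_HH1] at hh
      refine ⟨(⟨u, ⟨hu, u.2⟩⟩, ⟨h, ⟨hh, h.2⟩⟩), ?_⟩
      apply Subtype.ext
      apply Subtype.ext
      show (u : GL chevG2.Idx K) * (h : GL chevG2.Idx K) = b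
      rw [e]
      rfl
  have : Finite ↥(chevG2.posUnipotent K ⊓ twistedG2 K (3 ^ m)) :=
    Nat.finite_of_card_ne_zero (by rw [card_pos_twisted hK]; positivity)
  rw [← Nat.card_congr (Equiv.ofBijective f hf), Nat.card_prod, card_pos_twisted hK,
    card_diag_twisted hK]

/-- an element of prime order `s > 3` prime to `q - 1` commutes with no element of order `3` -/
theorem no_three (hK : Fintype.card K = 3 ^ (2 * m + 1)) (y u : ↥(twistedG2 K (3 ^ m))) (s : ℕ)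
    (hs : s.Prime) (hs3 : 3 < s) (hsq : s.Coprime (3 ^ (2 * m + 1) - 1)) (hy : orderOf y = s)
    (hu : u ^ 3 = 1) (huy : u * y = y * u) : u = 1 := by
  by_contra hu1
  have hfin := Cfsg.Agent.ReeL.finite_twisted (K := K) (m := m) hK
  have : Fact (Nat.Prime 3) := ⟨Nat.prime_three⟩
  have huo : orderOf u = 3 := orderOf_eq_prime hu hu1
  obtain ⟨R, hR⟩ := (isPGroup_zpowers_of_orderOf 3 u huo).exists_le_sylow
  obtain ⟨P₀, hP₀⟩ := exists_sylow_U1 (K := K) (m := m) hK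
  obtain ⟨g, hg⟩ := MulAction.exists_smul_eq ↥(twistedG2 K (3 ^ m)) P₀ R
  have huR : u ∈ (R : Subgroup ↥(twistedG2 K (3 ^ m))) := hR (Subgroup.mem_zpowers u)
  have hu' : (g : GL chevG2.Idx K)⁻¹ * (u : GL chevG2.Idx K) * (g : GL chevG2.Idx K)
      ∈ chevG2.posUnipotent K := by
    rw [← hg, Sylow.coe_subgroup_smul, hP₀, mem_conj_smul_U1] at huR
    exact huR
  -- `y' = g⁻¹ y g` lies in `B`
  have hyB : (g : GL chevG2.Idx K)⁻¹ * (y : GL chevG2.Idx K) * (g : GL chevG2.Idx K)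
      ∈ chevG2.borelSubgroup K := by
    by_contra hnB
    have h1 := eq_one_of_conj_mem_pos hK
      ((g : GL chevG2.Idx K)⁻¹ * (y : GL chevG2.Idx K) * (g : GL chevG2.Idx K))
      ((g : GL chevG2.Idx K)⁻¹ * (u : GL chevG2.Idx K) * (g : GL chevG2.Idx K))
      (Subgroup.mul_mem _ (Subgroup.mul_mem _ (Subgroup.inv_mem _ g.2) y.2) g.2) hnB hu' (by
        have huy' : (u : GL chevG2.Idx K) * (y : GL chevG2.Idx K)
            = (y : GL chevG2.Idx K) * (u : GL chevG2.Idx K) := congrArg Subtype.val huy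
        have e : ((g : GL chevG2.Idx K)⁻¹ * (y : GL chevG2.Idx K) * (g : GL chevG2.Idx K))⁻¹ *
            ((g : GL chevG2.Idx K)⁻¹ * (u : GL chevG2.Idx K) * (g : GL chevG2.Idx K)) *
            ((g : GL chevG2.Idx K)⁻¹ * (y : GL chevG2.Idx K) * (g : GL chevG2.Idx K))
            = (g : GL chevG2.Idx K)⁻¹ * ((y : GL chevG2.Idx K)⁻¹ *
              ((u : GL chevG2.Idx K) * (y : GL chevG2.Idx K))) * (g : GL chevG2.Idx K) := by group
        rw [e, huy']
        have e2 : (g : GL chevG2.Idx K)⁻¹ * ((y : GL chevG2.Idx K)⁻¹ *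
            ((y : GL chevG2.Idx K) * (u : GL chevG2.Idx K))) * (g : GL chevG2.Idx K)
            = (g : GL chevG2.Idx K)⁻¹ * (u : GL chevG2.Idx K) * (g : GL chevG2.Idx K) := by group
        rw [e2]
        exact hu')
    apply hu1
    apply Subtype.ext
    have e : (u : GL chevG2.Idx K) = (g : GL chevG2.Idx K) *
        ((g : GL chevG2.Idx K)⁻¹ * (u : GL chevG2.Idx K) * (g : GL chevG2.Idx K)) *
        (g : GL chevG2.Idx K)⁻¹ := by group
    rw [e, h1]
    simp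
  have hyB1 : g⁻¹ * y * g ∈ B1 K m := (mem_B1 _).2 hyB
  have hdvd : s ∣ (3 ^ (2 * m + 1)) ^ 3 * (3 ^ (2 * m + 1) - 1) := by
    rw [← card_B1 hK, ← hy]
    have h1 : orderOf (g⁻¹ * y * g) = orderOf y := by
      have := (MulAut.conj g⁻¹).orderOf_eq y
      rw [MulAut.conj_apply, inv_inv] at this
      exact this
    rw [← h1]
    exact Subgroup.orderOf_dvd_natCard _ hyB1
  rcases hs.dvd_mul.1 hdvd with h | h
  · have h1 := hs.dvd_of_dvd_pow (hs.dvd_of_dvd_pow h)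
    have := Nat.le_of_dvd (by norm_num) h1
    omega
  · have := Nat.eq_one_of_dvd_coprimes hsq dvd_rfl h
    omega

end

end Cfsg.Agent.ReeTor
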