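import Mathlib
import Cfsg.Agent.Lib.Helper7.CoprimeGen3

/-!
# A group all of whose involution centralisers are abelian of order `4n` (lead)

If a finite group `C` of order prime to `3` has an involution, and the centraliser of every
involution is abelian of order `4n`, `n` odd, of exponent dividing `2n`, then `C` itself is abelian
of order `4n`.  (Burnside's transfer theorem and generation by centralisers.)
-/

set_option autoImplicit false

namespace Cfsg.Agent.ReeTor

open Subgroup

theorem abelian_of_invol_cent {C : Type*} [Group C] [Finite C] (n : ℕ) (hn : Odd n)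
    (h1 : ∃ v : C, v * v = 1 ∧ v ≠ 1)
    (h2 : ∀ v : C, v * v = 1 → v ≠ 1 →
      (∀ a ∈ centralizer ({v} : Set C), ∀ b ∈ centralizer ({v} : Set C), a * b = b * a) ∧
      Nat.card (centralizer ({v} : Set C)) = 4 * n ∧
      ∀ x ∈ centralizer ({v} : Set C), x ^ (2 * n) = 1)
    (h3 : ∀ u : C, u ^ 3 = 1 → u = 1) :
    (∀ a b : C, a * b = b * a) ∧ Nat.card C = 4 * n ∧ ∀ x : C, x ^ (2 * n) = 1 := by
  classical
  have : Fact (Nat.Prime 2) := ⟨Nat.prime_two⟩
  have : Fact (Nat.Prime 3) := ⟨Nat.prime_three⟩
  obtain ⟨v₁, hv₁, hv₁'⟩ := h1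
  have h2C : 2 ∣ Nat.card C := by
    have : orderOf v₁ = 2 := orderOf_eq_prime (by rw [pow_two]; exact hv₁) hv₁'
    rw [← this]
    exact orderOf_dvd_natCard v₁
  have h3C : ¬ 3 ∣ Nat.card C := by
    intro h
    obtain ⟨u, hu⟩ := exists_prime_orderOf_dvd_card' 3 h
    have hu3 : u ^ 3 = 1 := by rw [← hu]; exact pow_orderOf_eq_one u
    have := h3 u hu3
    rw [this, orderOf_one] at hu
    norm_num at hu
  let P : Sylow 2 C := default
  have hP2 : 2 ∣ Nat.card (P : Subgroup C) := P.dvd_card_of_dvd_card h2C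
  have hPnt : Nontrivial ↥(P : Subgroup C) := by
    rw [← Finite.one_lt_card_iff_nontrivial]
    have := Nat.le_of_dvd Nat.card_pos hP2
    omega
  have hZnt := P.isPGroup'.center_nontrivial
  obtain ⟨k, hk⟩ := (P.isPGroup'.to_subgroup (center ↥(P : Subgroup C))).exists_card_eq
  have hk0 : k ≠ 0 := by
    rintro rfl
    rw [pow_zero] at hk
    have := (Finite.one_lt_card_iff_nontrivial (α := ↥(center ↥(P : Subgroup C)))).2 hZnt
    omega
  have h2Z : 2 ∣ Nat.card (center ↥(P : Subgroup C)) := by
    rw [hk]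
    exact dvd_pow_self 2 hk0
  obtain ⟨z0, hz0⟩ := exists_prime_orderOf_dvd_card' 2 h2Z
  -- the central involution of `P`
  set z : C := ((z0 : ↥(P : Subgroup C)) : C) with hzdef
  have hzP : z ∈ (P : Subgroup C) := (z0 : ↥(P : Subgroup C)).2
  have hzo : orderOf z = 2 := by
    rw [hzdef, Subgroup.orderOf_coe, Subgroup.orderOf_coe]
    exact hz0
  have hzz : z * z = 1 := by
    rw [← pow_two, ← hzo]
    exact pow_orderOf_eq_one z
  have hz1 : z ≠ 1 := by
    intro h
    rw [h, orderOf_one] at hzo
    norm_num at hzo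
  have hzc : ∀ x ∈ (P : Subgroup C), x * z = z * x := by
    intro x hx
    have h := (Subgroup.mem_center_iff.1 z0.2) ⟨x, hx⟩
    have := congrArg (Subtype.val : ↥(P : Subgroup C) → C) h
    exact this
  obtain ⟨hzab, hzcard, hzexp⟩ := h2 z hzz hz1
  have hPle : (P : Subgroup C) ≤ centralizer ({z} : Set C) := by
    intro x hx
    exact Subgroup.mem_centralizer_singleton_iff.2 (hzc x hx)
  -- `|P| = 4`
  have hPcard : Nat.card (P : Subgroup C) = 4 := by
    obtain ⟨j, hj⟩ := P.isPGroup'.exists_card_eq
    have hd1 : Nat.card (P : Subgroup C) ∣ 4 * n := hzcard ▸ Subgroup.card_dvd_of_le hPle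
    have hd2 : 2 ^ 2 ∣ Nat.card (P : Subgroup C) := by
      apply P.pow_dvd_card_of_pow_dvd_card
      have : Nat.card (centralizer ({z} : Set C)) ∣ Nat.card C :=
        Subgroup.card_subgroup_dvd_card _
      rw [hzcard] at this
      exact Dvd.dvd.trans (by norm_num) this
    rw [hj] at hd1 hd2 ⊢
    have hcop : Nat.Coprime (2 ^ j) n := by
      apply Nat.Coprime.pow_left
      rw [Nat.coprime_two_left]
      exact hn
    have hd3 : 2 ^ j ∣ 2 ^ 2 := by
      have := hcop.dvd_of_dvd_mul_right hd1
      exact this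
    have h4 : 2 ^ 2 = 2 ^ j := Nat.dvd_antisymm hd2 hd3
    rw [← h4]
    norm_num
  -- `P` has exponent two and is abelian
  have hPexp : ∀ x ∈ (P : Subgroup C), x * x = 1 := by
    intro x hx
    have e1 : x ^ (2 * n) = 1 := hzexp x (hPle hx)
    have e2 : x ^ 4 = 1 := by
      have := pow_card_eq_one' (G := ↥(P : Subgroup C)) (x := ⟨x, hx⟩)
      rw [hPcard] at this
      exact congrArg Subtype.val this
    have e3 := pow_gcd_eq_one.2 ⟨e1, e2⟩
    have hg : Nat.gcd (2 * n) 4 = 2 := by
      obtain ⟨r, rfl⟩ := hn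
      have : 2 * (2 * r + 1) = 4 * r + 2 := by ring
      rw [this]
      simp
    rw [hg, pow_two] at e3
    exact e3
  have hPcomm : ∀ x ∈ (P : Subgroup C), ∀ y ∈ (P : Subgroup C), x * y = y * x :=
    fun x hx y hy => hzab x (hPle hx) y (hPle hy)
  have hPmc : IsMulCommutative ↥(P : Subgroup C) :=
    ⟨⟨fun a b => Subtype.ext (hPcomm a a.2 b b.2)⟩⟩
  have hPnc : ¬ IsCyclic ↥(P : Subgroup C) := by
    intro hc
    obtain ⟨g, hg⟩ := hc.exists_generator
    have ho : orderOf g = 4 := by
      rw [orderOf_eq_card_of_forall_mem_zpowers hg, hPcard]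
    have hg2 : g ^ 2 = 1 := by
      apply Subtype.ext
      rw [pow_two]
      exact hPexp g g.2
    have := orderOf_dvd_of_pow_eq_one hg2
    rw [ho] at this
    norm_num at this
  -- the normaliser of `P` centralises `P`
  have hNC : normalizer ((P : Subgroup C) : Set C) ≤ centralizer ((P : Subgroup C) : Set C) := by
    have key := Subgroup.card_dvd_of_injective _
      (QuotientGroup.kerLift_injective (P : Subgroup C).normalizerMonoidHom)
    rw [Subgroup.normalizerMonoidHom_ker, ← Subgroup.index, ← Subgroup.relIndex] at key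
    have key2 : Nat.card (MulAut ↥(P : Subgroup C)) ∣ 24 := by
      have h := Subgroup.card_dvd_of_injective (MulAut.toPerm ↥(P : Subgroup C))
        (fun a b hab => by
          apply MulEquiv.ext
          intro x
          exact congrArg (fun σ : Equiv.Perm ↥(P : Subgroup C) => σ x) hab)
      rw [Nat.card_perm, hPcard] at h
      exact h
    have key3 := key.trans key2
    apply Subgroup.relIndex_eq_one.1
    apply Nat.eq_one_of_dvd_coprimes ?_ dvd_rfl key3
    have e24 : 24 = 2 ^ 3 * 3 := by norm_num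
    rw [e24]
    apply Nat.Coprime.mul_right
    · apply Nat.Coprime.pow_right
      apply Nat.Coprime.coprime_dvd_left
        (Subgroup.relIndex_dvd_of_le_left _ (Subgroup.le_centralizer (P : Subgroup C)))
      apply Nat.Coprime.coprime_dvd_left (Subgroup.relIndex_dvd_index_of_le P.le_normalizer)
      rw [Nat.coprime_comm, Nat.Prime.coprime_iff_not_dvd Nat.prime_two]
      exact P.not_dvd_index
    · apply Nat.Coprime.coprime_dvd_left (Subgroup.relIndex_dvd_card _ _)
      apply Nat.Coprime.coprime_dvd_left (Subgroup.card_subgroup_dvd_card _)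
      rw [Nat.coprime_comm, Nat.Prime.coprime_iff_not_dvd Nat.prime_three]
      exact h3C
  -- the normal 2-complement
  set M : Subgroup C := (MonoidHom.transferSylow P hNC).ker with hM
  have hcompl : M.IsComplement' (P : Subgroup C) :=
    MonoidHom.ker_transferSylow_isComplement' P hNC
  have hMnorm : M.Normal := by
    rw [hM]
    infer_instance
  have hMcard : ¬ 2 ∣ Nat.card M := MonoidHom.not_dvd_card_ker_transferSylow P hNC
  have hgen := Cfsg.Agent.Lib.Helper7.cgen_eq_of_not_isCyclic (P : Subgroup C) M hPnc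
    (by
      rw [Subgroup.normalizer_eq_top]
      exact le_top)
    (by
      rw [hPcard]
      have : (4 : ℕ) = 2 ^ 2 := by norm_num
      rw [this]
      apply Nat.Coprime.pow_left
      rw [Nat.Prime.coprime_iff_not_dvd Nat.prime_two]
      exact hMcard)
  -- `M ≤ C(z)`
  have hMz : M ≤ centralizer ({z} : Set C) := by
    rw [← hgen]
    apply iSup₂_le
    rintro a ⟨haP, ha1⟩
    intro x hx
    obtain ⟨-, hxa⟩ := Subgroup.mem_inf.1 hx
    obtain ⟨haab, -, -⟩ := h2 a (hPexp a haP) ha1
    have hza : z ∈ centralizer ({a} : Set C) :=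
      Subgroup.mem_centralizer_singleton_iff.2 (hPcomm z hzP a haP)
    exact Subgroup.mem_centralizer_singleton_iff.2 (haab x hxa z hza)
  have htop : centralizer ({z} : Set C) = ⊤ := by
    rw [eq_top_iff, ← hcompl.sup_eq_top]
    exact sup_le hMz hPle
  refine ⟨fun a b => hzab a (htop ▸ Subgroup.mem_top a) b (htop ▸ Subgroup.mem_top b), ?_,
    fun x => hzexp x (htop ▸ Subgroup.mem_top x)⟩
  rw [← hzcard, htop, Subgroup.card_top]

end Cfsg.Agent.ReeTor
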