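import Cfsg.Agent.Lib.Lead.ReeTor.SplitB
import Mathlib

/-!
# Small Ree groups: the centraliser of a cyclic subgroup of order `(q - 1) / 2` (lead)
-/

set_option autoImplicit false
set_option maxRecDepth 100000

namespace Cfsg.Agent.ReeTor

open Cfsg.Lie Cfsg.Agent.Lib.Helper5.Chev Cfsg.Agent.Lib.Helper5.GA Cfsg.Agent.Lib.Helper5.Tw
open Cfsg.Agent.Lib.Helper5.Frob Cfsg.Agent.Lib.Helper5.SL2P Cfsg.Agent.Lib.Helper5.Ree
open Cfsg.Agent.ReeL Cfsg.Agent.Lib.Helper8.ReeSyl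

section

variable {K : Type*} [Field K] [Fintype K] [CharP K 3] {m : ℕ}

theorem HH1_comm (hK : Fintype.card K = 3 ^ (2 * m + 1)) (x y : ↥(twistedG2 K (3 ^ m)))
    (hx : x ∈ HH1 K m) (hy : y ∈ HH1 K m) : x * y = y * x := by
  rw [mem_HH1] at hx hy
  obtain ⟨ν, hν⟩ := (mem_diag_twisted_iff hK _).1 ⟨hx, x.2⟩
  obtain ⟨ν', hν'⟩ := (mem_diag_twisted_iff hK _).1 ⟨hy, y.2⟩
  apply Subtype.ext
  show (x : GL chevG2.Idx K) * (y : GL chevG2.Idx K) = (y : GL chevG2.Idx K) * (x : GL chevG2.Idx K)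
  rw [← hν, ← hν', ← map_mul, ← map_mul, mul_comm]

end

section

variable {K : Type*} [Field K] [Fintype K] {m : ℕ}

/-- a cyclic subgroup of order `(q - 1) / 2` of the small Ree group: its centraliser is cyclic of
order `q - 1` and is the centraliser of each of its non-trivial subgroups -/
theorem part_one (hK : Fintype.card K = 3 ^ (2 * m + 1))
    (H : Subgroup ↥(twistedG2 K (3 ^ m))) (hH : IsCyclic H)
    (hcard : Nat.card H = (3 ^ (2 * m + 1) - 1) / 2) (hm : 1 ≤ m) :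
    IsCyclic ↥(Subgroup.centralizer (H : Set ↥(twistedG2 K (3 ^ m)))) ∧
      Nat.card ↥(Subgroup.centralizer (H : Set ↥(twistedG2 K (3 ^ m)))) = 3 ^ (2 * m + 1) - 1 ∧
      ∀ A : Subgroup ↥(twistedG2 K (3 ^ m)), A ≤ H → A ≠ ⊥ →
        Subgroup.centralizer (A : Set ↥(twistedG2 K (3 ^ m)))
          = Subgroup.centralizer (H : Set ↥(twistedG2 K (3 ^ m))) := by
  have := charP3 hK
  have hfin := Cfsg.Agent.ReeL.finite_twisted (K := K) (m := m) hK
  have hHcomm : ∀ x ∈ H, ∀ y ∈ H, x * y = y * x := by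
    intro x hx y hy
    obtain ⟨g, hg⟩ := hH.exists_generator
    obtain ⟨i, hi⟩ := Subgroup.mem_zpowers_iff.1 (hg ⟨x, hx⟩)
    obtain ⟨j, hj⟩ := Subgroup.mem_zpowers_iff.1 (hg ⟨y, hy⟩)
    have e1 : x = (g : ↥(twistedG2 K (3 ^ m))) ^ i := by
      have := congrArg Subtype.val hi
      rw [Subgroup.coe_zpow] at this
      exact this.symm
    have e2 : y = (g : ↥(twistedG2 K (3 ^ m))) ^ j := by
      have := congrArg Subtype.val hj
      rw [Subgroup.coe_zpow] at this
      exact this.symm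
    rw [e1, e2, ← zpow_add, ← zpow_add, add_comm]
  have key : ∀ A : Subgroup ↥(twistedG2 K (3 ^ m)), A ≤ H → A ≠ ⊥ →
      ∃ a : ↥(twistedG2 K (3 ^ m)), ∃ s : ℕ, s.Prime ∧ s ∣ (3 ^ (2 * m + 1) - 1) / 2 ∧
        orderOf a = s ∧
        Subgroup.centralizer (A : Set ↥(twistedG2 K (3 ^ m))) = Subgroup.centralizer {a} ∧
        Subgroup.centralizer (H : Set ↥(twistedG2 K (3 ^ m))) = Subgroup.centralizer {a} := by
    intro A hAH hA
    have hA1 : Nat.card A ≠ 1 := by
      intro h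
      exact hA (Subgroup.card_eq_one.1 h)
    have hsp : (Nat.card A).minFac.Prime := Nat.minFac_prime hA1
    have : Fact (Nat.card A).minFac.Prime := ⟨hsp⟩
    obtain ⟨x, hx⟩ := exists_prime_orderOf_dvd_card' (G := A) (Nat.card A).minFac
      (Nat.minFac_dvd _)
    have hsd : (Nat.card A).minFac ∣ (3 ^ (2 * m + 1) - 1) / 2 := by
      rw [← hcard]
      exact (Nat.minFac_dvd _).trans (Subgroup.card_dvd_of_le hAH)
    have ha : orderOf (x : ↥(twistedG2 K (3 ^ m))) = (Nat.card A).minFac := by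
      rw [Subgroup.orderOf_coe]
      exact hx
    obtain ⟨g, hg⟩ := split_cent hK (x : ↥(twistedG2 K (3 ^ m))) _ hsp hsd ha
    have hTcomm : ∀ u ∈ Subgroup.centralizer ({(x : ↥(twistedG2 K (3 ^ m)))} : Set _),
        ∀ v ∈ Subgroup.centralizer ({(x : ↥(twistedG2 K (3 ^ m)))} : Set _), u * v = v * u := by
      intro u hu v hv
      have h1 := HH1_comm hK _ _ ((hg u).1 hu) ((hg v).1 hv)
      have e1 : u * v = g * ((g⁻¹ * u * g) * (g⁻¹ * v * g)) * g⁻¹ := by group
      have e2 : v * u = g * ((g⁻¹ * v * g) * (g⁻¹ * u * g)) * g⁻¹ := by group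
      rw [e1, e2, h1]
    have hHT : H ≤ Subgroup.centralizer ({(x : ↥(twistedG2 K (3 ^ m)))} : Set _) := by
      intro h hh
      rw [Subgroup.mem_centralizer_singleton_iff]
      exact hHcomm h hh _ (hAH x.2)
    have h1 : Subgroup.centralizer ({(x : ↥(twistedG2 K (3 ^ m)))} : Set _)
        ≤ Subgroup.centralizer (H : Set ↥(twistedG2 K (3 ^ m))) := by
      intro u hu
      rw [Subgroup.mem_centralizer_iff]
      intro h hh
      exact hTcomm h (hHT hh) u hu
    have h2 : Subgroup.centralizer (H : Set ↥(twistedG2 K (3 ^ m)))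
        ≤ Subgroup.centralizer (A : Set ↥(twistedG2 K (3 ^ m))) :=
      Subgroup.centralizer_le hAH
    have h3 : Subgroup.centralizer (A : Set ↥(twistedG2 K (3 ^ m)))
        ≤ Subgroup.centralizer ({(x : ↥(twistedG2 K (3 ^ m)))} : Set _) :=
      Subgroup.centralizer_le (by
        intro y hy
        rw [Set.mem_singleton_iff] at hy
        rw [hy]
        exact x.2)
    exact ⟨x, _, hsp, hsd, ha, le_antisymm h3 (h1.trans h2), le_antisymm (h2.trans h3) h1⟩
  have hHne : H ≠ ⊥ := by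
    intro h
    rw [h, Subgroup.card_bot] at hcard
    have h27 : 3 ^ (2 * 1 + 1) ≤ 3 ^ (2 * m + 1) := Nat.pow_le_pow_right (by norm_num) (by omega)
    omega
  refine ⟨?_, ?_, ?_⟩
  · obtain ⟨a, s, hs, hsd, ha, -, hHa⟩ := key H le_rfl hHne
    obtain ⟨g, hg⟩ := split_cent hK a s hs hsd ha
    rw [hHa]
    have e := conjEquiv _ _ g hg
    have := isCyclic_HH1 (K := K) (m := m) hK
    exact isCyclic_of_injective e.toMonoidHom e.injective
  · obtain ⟨a, s, hs, hsd, ha, -, hHa⟩ := key H le_rfl hHne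
    obtain ⟨g, hg⟩ := split_cent hK a s hs hsd ha
    rw [hHa, Nat.card_congr (conjEquiv _ _ g hg).toEquiv, card_HH1 hK]
  · intro A hAH hA
    obtain ⟨a, s, hs, hsd, ha, hAa, hHa⟩ := key A hAH hA
    rw [hAa, hHa]

end

end Cfsg.Agent.ReeTor
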