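import Cfsg.Agent.Lib.Lead.ReeTor.QuarterB
import Cfsg.Agent.Lib.Lead.ReeTor.Abstract
import Mathlib

/-!
# Small Ree groups: the centraliser of a cyclic subgroup of order `(q + 1) / 4` (lead)
-/

set_option autoImplicit false
set_option maxRecDepth 100000

namespace Cfsg.Agent.ReeTor

open Cfsg.Lie Cfsg.Agent.Lib.Helper5.Chev Cfsg.Agent.Lib.Helper5.GA Cfsg.Agent.Lib.Helper5.Tw
open Cfsg.Agent.Lib.Helper5.Frob Cfsg.Agent.Lib.Helper5.SL2P Cfsg.Agent.Lib.Helper5.Ree
open Cfsg.Agent.ReeL Cfsg.Agent.Lib.Helper8.ReeSyl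

section

variable {K : Type*} [Field K] [Fintype K] [CharP K 3] {m : ℕ}

/-- `C(y) ∩ C(v)` for an arbitrary involution `v` centralising `y` -/
theorem Ev_struct (hK : Fintype.card K = 3 ^ (2 * m + 1)) (hm : 1 ≤ m)
    (y v : ↥(twistedG2 K (3 ^ m))) (s : ℕ)
    (hs : s.Prime) (hs3 : 3 < s) (hsq : s.Coprime (3 ^ (2 * m + 1) - 1)) (hy : orderOf y = s)
    (hv : v * v = 1) (hv1 : v ≠ 1) (hyv : v * y = y * v) :
    (∀ a ∈ Subgroup.centralizer ({y} : Set ↥(twistedG2 K (3 ^ m))) ⊓ Subgroup.centralizer {v},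
      ∀ b ∈ Subgroup.centralizer ({y} : Set ↥(twistedG2 K (3 ^ m))) ⊓
        Subgroup.centralizer {v}, a * b = b * a) ∧
    Nat.card ↥(Subgroup.centralizer ({y} : Set ↥(twistedG2 K (3 ^ m))) ⊓
      Subgroup.centralizer {v}) = 3 ^ (2 * m + 1) + 1 ∧
    ∀ x ∈ Subgroup.centralizer ({y} : Set ↥(twistedG2 K (3 ^ m))) ⊓ Subgroup.centralizer {v},
      x ^ ((3 ^ (2 * m + 1) + 1) / 2) = 1 := by
  obtain ⟨g, rfl⟩ := invol_conj hK hm v hv hv1
  have hy' : orderOf (g⁻¹ * y * g) = s := by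
    have := (MulAut.conj g⁻¹).orderOf_eq y
    rw [MulAut.conj_apply, inv_inv] at this
    rw [this, hy]
  have hyt : aG K m * (g⁻¹ * y * g) = (g⁻¹ * y * g) * aG K m := by
    have e1 : aG K m * (g⁻¹ * y * g) = g⁻¹ * ((g * aG K m * g⁻¹) * y) * g := by group
    have e2 : (g⁻¹ * y * g) * aG K m = g⁻¹ * (y * (g * aG K m * g⁻¹)) * g := by group
    rw [e1, e2, hyv]
  obtain ⟨h1, h2, h3⟩ := Et_struct hK (g⁻¹ * y * g) s hs hs3 hsq hy' hyt
  have hconj : ∀ x : ↥(twistedG2 K (3 ^ m)),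
      x ∈ Subgroup.centralizer ({y} : Set ↥(twistedG2 K (3 ^ m))) ⊓
        Subgroup.centralizer {g * aG K m * g⁻¹}
      ↔ g⁻¹ * x * g ∈ Subgroup.centralizer ({g⁻¹ * y * g} : Set ↥(twistedG2 K (3 ^ m))) ⊓
        Subgroup.centralizer {aG K m} := by
    intro x
    rw [Subgroup.mem_inf, Subgroup.mem_inf, Subgroup.mem_centralizer_singleton_iff,
      Subgroup.mem_centralizer_singleton_iff, Subgroup.mem_centralizer_singleton_iff,
      Subgroup.mem_centralizer_singleton_iff]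
    have e1 : g⁻¹ * x * g * (g⁻¹ * y * g) = g⁻¹ * (x * y) * g := by group
    have e2 : g⁻¹ * y * g * (g⁻¹ * x * g) = g⁻¹ * (y * x) * g := by group
    have e3 : g⁻¹ * x * g * aG K m = g⁻¹ * (x * (g * aG K m * g⁻¹)) * g := by group
    have e4 : aG K m * (g⁻¹ * x * g) = g⁻¹ * ((g * aG K m * g⁻¹) * x) * g := by group
    rw [e1, e2, e3, e4]
    constructor
    · rintro ⟨a, b⟩
      rw [a, b]
      exact ⟨rfl, rfl⟩
    · rintro ⟨a, b⟩
      exact ⟨mul_left_cancel (mul_right_cancel a), mul_left_cancel (mul_right_cancel b)⟩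
  refine ⟨?_, ?_, ?_⟩
  · intro a ha b hb
    have := h1 _ ((hconj a).1 ha) _ ((hconj b).1 hb)
    have e1 : a * b = g * ((g⁻¹ * a * g) * (g⁻¹ * b * g)) * g⁻¹ := by group
    have e2 : b * a = g * ((g⁻¹ * b * g) * (g⁻¹ * a * g)) * g⁻¹ := by group
    rw [e1, e2, this]
  · rw [Nat.card_congr (conjEquiv _ _ g hconj).toEquiv, h2]
  · intro x hx
    have := h3 _ ((hconj x).1 hx)
    have e0 : (g⁻¹ * x * g) ^ ((3 ^ (2 * m + 1) + 1) / 2)
        = g⁻¹ * x ^ ((3 ^ (2 * m + 1) + 1) / 2) * g := by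
      have h := conj_pow (a := g⁻¹) (b := x) (i := (3 ^ (2 * m + 1) + 1) / 2)
      rw [inv_inv] at h
      exact h
    rw [e0] at this
    have e : x ^ ((3 ^ (2 * m + 1) + 1) / 2)
        = g * (g⁻¹ * x ^ ((3 ^ (2 * m + 1) + 1) / 2) * g) * g⁻¹ := by group
    rw [e, this]
    group


omit [Fintype K] [CharP K 3] in
theorem mem_centralizer_subtype {G : Type*} [Group G] (C : Subgroup G) (v a : ↥C) :
    a ∈ Subgroup.centralizer ({v} : Set ↥C)
      ↔ (a : G) ∈ C ⊓ Subgroup.centralizer ({(v : G)} : Set G) := by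
  rw [Subgroup.mem_inf, Subgroup.mem_centralizer_singleton_iff,
    Subgroup.mem_centralizer_singleton_iff]
  constructor
  · intro h
    exact ⟨a.2, congrArg Subtype.val h⟩
  · rintro ⟨-, h⟩
    exact Subtype.ext h

omit [Fintype K] [CharP K 3] in
theorem card_centralizer_subtype {G : Type*} [Group G] (C : Subgroup G) (v : ↥C) :
    Nat.card ↥(Subgroup.centralizer ({v} : Set ↥C))
      = Nat.card ↥(C ⊓ Subgroup.centralizer ({(v : G)} : Set G)) := by
  apply Nat.card_congr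
  refine ⟨fun a => ⟨(a : ↥C), (mem_centralizer_subtype C v a).1 a.2⟩,
    fun x => ⟨⟨x, x.2.1⟩, (mem_centralizer_subtype C v ⟨x, x.2.1⟩).2 x.2⟩, ?_, ?_⟩
  · intro a
    rfl
  · intro x
    rfl

/-- the centraliser of an element of prime order dividing `(q + 1) / 4` -/
theorem quarter_cent (hK : Fintype.card K = 3 ^ (2 * m + 1)) (hm : 1 ≤ m)
    (y : ↥(twistedG2 K (3 ^ m))) (s : ℕ) (hs : s.Prime) (hsd : s ∣ (3 ^ (2 * m + 1) + 1) / 4)
    (hy : orderOf y = s) :
    (∀ a ∈ Subgroup.centralizer ({y} : Set ↥(twistedG2 K (3 ^ m))),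
      ∀ b ∈ Subgroup.centralizer ({y} : Set ↥(twistedG2 K (3 ^ m))), a * b = b * a) ∧
    Nat.card ↥(Subgroup.centralizer ({y} : Set ↥(twistedG2 K (3 ^ m)))) = 3 ^ (2 * m + 1) + 1 ∧
    ∀ x ∈ Subgroup.centralizer ({y} : Set ↥(twistedG2 K (3 ^ m))),
      x ^ ((3 ^ (2 * m + 1) + 1) / 2) = 1 := by
  have hfin := Cfsg.Agent.ReeL.finite_twisted (K := K) (m := m) hK
  have : Fact s.Prime := ⟨hs⟩
  have hs3 := prime_gt_three_of_dvd_quarter hs hsd
  have h8 := q_mod8 m
  have hsd' : s ∣ 3 ^ (2 * m + 1) + 1 := dvd_trans hsd (Nat.div_dvd_of_dvd (by omega))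
  have hsq : s.Coprime (3 ^ (2 * m + 1) - 1) := by
    rw [Nat.Prime.coprime_iff_not_dvd hs]
    intro h
    have h2 := Nat.dvd_sub hsd' h
    have e : 3 ^ (2 * m + 1) + 1 - (3 ^ (2 * m + 1) - 1) = 2 := by omega
    rw [e] at h2
    have := Nat.le_of_dvd (by norm_num) h2
    omega
  have hn : Odd ((3 ^ (2 * m + 1) + 1) / 4) := by
    rw [Nat.odd_iff]
    omega
  have e4 : 4 * ((3 ^ (2 * m + 1) + 1) / 4) = 3 ^ (2 * m + 1) + 1 := by omega
  have e2 : 2 * ((3 ^ (2 * m + 1) + 1) / 4) = (3 ^ (2 * m + 1) + 1) / 2 := by omega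
  have habs := abelian_of_invol_cent
    (C := ↥(Subgroup.centralizer ({y} : Set ↥(twistedG2 K (3 ^ m)))))
    ((3 ^ (2 * m + 1) + 1) / 4) hn ?_ ?_ ?_
  · obtain ⟨c1, c2, c3⟩ := habs
    refine ⟨fun a ha b hb => congrArg Subtype.val (c1 ⟨a, ha⟩ ⟨b, hb⟩), ?_, fun x hx => ?_⟩
    · rw [c2, e4]
    · have := congrArg Subtype.val (c3 ⟨x, hx⟩)
      rw [e2] at this
      exact this
  · -- an involution centralising `y`
    obtain ⟨g, hg⟩ := conj_mem_of_fact s
      (Subgroup.centralizer ({aG K m} : Set ↥(twistedG2 K (3 ^ m))))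
      (fact_quarter hK s hs3 hsd') y (isPGroup_zpowers_of_orderOf s y hy)
    rw [Subgroup.mem_centralizer_singleton_iff] at hg
    have hvy : g * aG K m * g⁻¹ * y = y * (g * aG K m * g⁻¹) := by
      have e1 : g * aG K m * g⁻¹ * y = g * (aG K m * (g⁻¹ * y * g)) * g⁻¹ := by group
      have e2' : y * (g * aG K m * g⁻¹) = g * ((g⁻¹ * y * g) * aG K m) * g⁻¹ := by group
      rw [e1, e2', hg]
    refine ⟨⟨g * aG K m * g⁻¹, Subgroup.mem_centralizer_singleton_iff.2 hvy⟩, ?_, ?_⟩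
    · apply Subtype.ext
      show g * aG K m * g⁻¹ * (g * aG K m * g⁻¹) = 1
      have : g * aG K m * g⁻¹ * (g * aG K m * g⁻¹) = g * (aG K m * aG K m) * g⁻¹ := by group
      rw [this, aG_sq]
      group
    · intro h
      have h' : g * aG K m * g⁻¹ = 1 := congrArg Subtype.val h
      apply aG_ne_one (K := K) (m := m) hK
      have : aG K m = g⁻¹ * (g * aG K m * g⁻¹) * g := by group
      rw [this, h']
      group
  · -- the centralisers of the involutions
    intro v hv hv1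
    have hv' : (v : ↥(twistedG2 K (3 ^ m))) * v = 1 := congrArg Subtype.val hv
    have hv1' : (v : ↥(twistedG2 K (3 ^ m))) ≠ 1 := fun h => hv1 (Subtype.ext h)
    have hyv : (v : ↥(twistedG2 K (3 ^ m))) * y = y * v :=
      Subgroup.mem_centralizer_singleton_iff.1 v.2
    obtain ⟨E1, E2, E3⟩ := Ev_struct hK hm y v s hs hs3 hsq hy hv' hv1' hyv
    refine ⟨fun a ha b hb => ?_, ?_, fun x hx => ?_⟩
    · apply Subtype.ext
      exact E1 _ ((mem_centralizer_subtype _ v a).1 ha) _ ((mem_centralizer_subtype _ v b).1 hb)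
    · rw [card_centralizer_subtype, E2, e4]
    · apply Subtype.ext
      rw [e2]
      exact E3 _ ((mem_centralizer_subtype _ v x).1 hx)
  · -- no element of order three
    intro u hu
    apply Subtype.ext
    have hu' : (u : ↥(twistedG2 K (3 ^ m))) ^ 3 = 1 := by
      have := congrArg Subtype.val hu
      rw [Subgroup.coe_pow] at this
      exact this
    exact no_three hK y u s hs hs3 hsq hy hu' (Subgroup.mem_centralizer_singleton_iff.1 u.2)

end

section

variable {K : Type*} [Field K] [Fintype K] {m : ℕ}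

/-- a cyclic subgroup of order `(q + 1) / 4` of the small Ree group: its centraliser is abelian of
order `q + 1`, has no element of order `4`, and is the centraliser of each of its non-trivial
subgroups -/
theorem part_two (hK : Fintype.card K = 3 ^ (2 * m + 1))
    (H : Subgroup ↥(twistedG2 K (3 ^ m))) (hH : IsCyclic H)
    (hcard : Nat.card H = (3 ^ (2 * m + 1) + 1) / 4) (hm : 1 ≤ m) :
    IsMulCommutative ↥(Subgroup.centralizer (H : Set ↥(twistedG2 K (3 ^ m)))) ∧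
      Nat.card ↥(Subgroup.centralizer (H : Set ↥(twistedG2 K (3 ^ m)))) = 3 ^ (2 * m + 1) + 1 ∧
      (∀ x ∈ Subgroup.centralizer (H : Set ↥(twistedG2 K (3 ^ m))), orderOf x ≠ 4) ∧
      ∀ A : Subgroup ↥(twistedG2 K (3 ^ m)), A ≤ H → A ≠ ⊥ →
        Subgroup.centralizer (A : Set ↥(twistedG2 K (3 ^ m)))
          = Subgroup.centralizer (H : Set ↥(twistedG2 K (3 ^ m))) := by
  have := charP3 hK
  have hfin := Cfsg.Agent.ReeL.finite_twisted (K := K) (m := m) hK
  have hHcomm : ∀ x ∈ H, ∀ y ∈ H, x * y = y * x := by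
    intro x hx y hy
    obtain ⟨g, hg⟩ := hH.exists_generator
    obtain ⟨i, hi⟩ := Subgroup.mem_zpowers_iff.1 (hg ⟨x, hx⟩)
    obtain ⟨j, hj⟩ := Subgroup.mem_zpowers_iff.1 (hg ⟨y, hy⟩)
    have e1 : x = (g : ↥(twistedG2 K (3 ^ m))) ^ i := by
      have := congrArg Subtype.val hi
      rw [Subgroup.coe_zpow] at this
      exact this.symm
    have e2 : y = (g : ↥(twistedG2 K (3 ^ m))) ^ j := by
      have := congrArg Subtype.val hj
      rw [Subgroup.coe_zpow] at this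
      exact this.symm
    rw [e1, e2, ← zpow_add, ← zpow_add, add_comm]
  have key : ∀ A : Subgroup ↥(twistedG2 K (3 ^ m)), A ≤ H → A ≠ ⊥ →
      ∃ a : ↥(twistedG2 K (3 ^ m)), ∃ s : ℕ, s.Prime ∧ s ∣ (3 ^ (2 * m + 1) + 1) / 4 ∧
        orderOf a = s ∧
        Subgroup.centralizer (A : Set ↥(twistedG2 K (3 ^ m))) = Subgroup.centralizer {a} ∧
        Subgroup.centralizer (H : Set ↥(twistedG2 K (3 ^ m))) = Subgroup.centralizer {a} := by
    intro A hAH hA
    have hA1 : Nat.card A ≠ 1 := by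
      intro h
      exact hA (Subgroup.card_eq_one.1 h)
    have hsp : (Nat.card A).minFac.Prime := Nat.minFac_prime hA1
    have : Fact (Nat.card A).minFac.Prime := ⟨hsp⟩
    obtain ⟨x, hx⟩ := exists_prime_orderOf_dvd_card' (G := A) (Nat.card A).minFac
      (Nat.minFac_dvd _)
    have hsd : (Nat.card A).minFac ∣ (3 ^ (2 * m + 1) + 1) / 4 := by
      rw [← hcard]
      exact (Nat.minFac_dvd _).trans (Subgroup.card_dvd_of_le hAH)
    have ha : orderOf (x : ↥(twistedG2 K (3 ^ m))) = (Nat.card A).minFac := by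
      rw [Subgroup.orderOf_coe]
      exact hx
    obtain ⟨hTcomm, -, -⟩ := quarter_cent hK hm (x : ↥(twistedG2 K (3 ^ m))) _ hsp hsd ha
    have hHT : H ≤ Subgroup.centralizer ({(x : ↥(twistedG2 K (3 ^ m)))} : Set _) := by
      intro h hh
      rw [Subgroup.mem_centralizer_singleton_iff]
      exact hHcomm h hh _ (hAH x.2)
    have h1 : Subgroup.centralizer ({(x : ↥(twistedG2 K (3 ^ m)))} : Set _)
        ≤ Subgroup.centralizer (H : Set ↥(twistedG2 K (3 ^ m))) := by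
      intro u hu
      rw [Subgroup.mem_centralizer_iff]
      intro h hh
      exact hTcomm h (hHT hh) u hu
    have h2 : Subgroup.centralizer (H : Set ↥(twistedG2 K (3 ^ m)))
        ≤ Subgroup.centralizer (A : Set ↥(twistedG2 K (3 ^ m))) :=
      Subgroup.centralizer_le hAH
    have h3 : Subgroup.centralizer (A : Set ↥(twistedG2 K (3 ^ m)))
        ≤ Subgroup.centralizer ({(x : ↥(twistedG2 K (3 ^ m)))} : Set _) :=
      Subgroup.centralizer_le (by
        intro y hy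
        rw [Set.mem_singleton_iff] at hy
        rw [hy]
        exact x.2)
    exact ⟨x, _, hsp, hsd, ha, le_antisymm h3 (h1.trans h2), le_antisymm (h2.trans h3) h1⟩
  have h8 := q_mod8 m
  have hHne : H ≠ ⊥ := by
    intro h
    rw [h, Subgroup.card_bot] at hcard
    have h27 : 3 ^ (2 * 1 + 1) ≤ 3 ^ (2 * m + 1) := Nat.pow_le_pow_right (by norm_num) (by omega)
    omega
  obtain ⟨a, s, hs, hsd, ha, -, hHa⟩ := key H le_rfl hHne
  obtain ⟨c1, c2, c3⟩ := quarter_cent hK hm a s hs hsd ha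
  refine ⟨?_, ?_, ?_, ?_⟩
  · rw [hHa]
    exact ⟨⟨fun x y => Subtype.ext (c1 x x.2 y y.2)⟩⟩
  · rw [hHa, c2]
  · intro x hx h4
    rw [hHa] at hx
    have h5 := orderOf_dvd_of_pow_eq_one (c3 x hx)
    rw [h4] at h5
    omega
  · intro A hAH hA
    obtain ⟨a', s', -, -, -, hAa, hHa'⟩ := key A hAH hA
    rw [hAa, hHa']

end

end Cfsg.Agent.ReeTor
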