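import Mathlib

/-!
# Centralisers of elements without eigenvalues in `SL₂(q)`, `q` odd (lead)

An element of `SL₂(K)` whose characteristic polynomial has no root in the finite field `K` (of odd
characteristic) has an abelian centraliser of order `q + 1`.
-/

set_option autoImplicit false

namespace Cfsg.Agent.ReeTor

open Matrix

section conic

variable {K : Type*} [Field K] [Fintype K]

/-- the conic `x² - D y² = 1`, `D` a non-square, has `q + 1` points -/
theorem card_conic (D : K) (hD : ¬ IsSquare D) (h2 : (2 : K) ≠ 0) :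
    Nat.card {p : K × K // p.1 ^ 2 - D * p.2 ^ 2 = 1} = Fintype.card K + 1 := by
  classical
  have hD0 : D ≠ 0 := by
    rintro rfl
    exact hD ⟨0, by ring⟩
  have hden : ∀ t : K, 1 - D * t ^ 2 ≠ 0 := by
    intro t h
    have ht : t ≠ 0 := by
      rintro rfl
      simp at h
    apply hD
    refine ⟨t⁻¹, ?_⟩
    field_simp
    linear_combination -h
  let f : Option K → {p : K × K // p.1 ^ 2 - D * p.2 ^ 2 = 1} := fun o =>
    match o with
    | none => ⟨(-1, 0), by ring⟩
    | some t => ⟨((1 + D * t ^ 2) / (1 - D * t ^ 2), 2 * t / (1 - D * t ^ 2)), by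
        have := hden t
        field_simp
        ring⟩
  have hf : Function.Bijective f := by
    constructor
    · rintro (_ | t) (_ | u) e
      · rfl
      · exfalso
        have e1 : (-1 : K) = (1 + D * u ^ 2) / (1 - D * u ^ 2) :=
          congrArg (fun p : {p : K × K // p.1 ^ 2 - D * p.2 ^ 2 = 1} => p.1.1) e
        have := hden u
        field_simp at e1
        apply h2
        linear_combination -e1
      · exfalso
        have e1 : (1 + D * t ^ 2) / (1 - D * t ^ 2) = (-1 : K) :=
          congrArg (fun p : {p : K × K // p.1 ^ 2 - D * p.2 ^ 2 = 1} => p.1.1) e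
        have := hden t
        field_simp at e1
        apply h2
        linear_combination e1
      · have e1 : (1 + D * t ^ 2) / (1 - D * t ^ 2) = (1 + D * u ^ 2) / (1 - D * u ^ 2) :=
          congrArg (fun p : {p : K × K // p.1 ^ 2 - D * p.2 ^ 2 = 1} => p.1.1) e
        have e2 : 2 * t / (1 - D * t ^ 2) = 2 * u / (1 - D * u ^ 2) :=
          congrArg (fun p : {p : K × K // p.1 ^ 2 - D * p.2 ^ 2 = 1} => p.1.2) e
        have ht := hden t
        have hu := hden u
        -- `1 + x = 2 / (1 - D t²)`
        have e3 : 2 / (1 - D * t ^ 2) = 2 / (1 - D * u ^ 2) := by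
          have a1 : 2 / (1 - D * t ^ 2) = 1 + (1 + D * t ^ 2) / (1 - D * t ^ 2) := by
            field_simp
            ring
          have a2 : 2 / (1 - D * u ^ 2) = 1 + (1 + D * u ^ 2) / (1 - D * u ^ 2) := by
            field_simp
            ring
          rw [a1, a2, e1]
        have e4 : t * (2 / (1 - D * t ^ 2)) = u * (2 / (1 - D * u ^ 2)) := by
          calc t * (2 / (1 - D * t ^ 2)) = 2 * t / (1 - D * t ^ 2) := by ring
            _ = 2 * u / (1 - D * u ^ 2) := e2
            _ = u * (2 / (1 - D * u ^ 2)) := by ring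
        rw [e3] at e4
        have hne : 2 / (1 - D * u ^ 2) ≠ 0 := div_ne_zero h2 hu
        exact congrArg some (mul_right_cancel₀ hne e4)
    · rintro ⟨⟨x, y⟩, hxy⟩
      simp only at hxy
      by_cases hx : x = -1
      · refine ⟨none, ?_⟩
        have hy : y = 0 := by
          subst hx
          have : D * y ^ 2 = 0 := by linear_combination -hxy
          rcases mul_eq_zero.1 this with h | h
          · exact absurd h hD0
          · exact pow_eq_zero_iff (two_ne_zero) |>.1 h
        subst hx hy
        rfl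
      · have hx1 : 1 + x ≠ 0 := by
          intro h
          apply hx
          linear_combination h
        refine ⟨some (y / (1 + x)), ?_⟩
        apply Subtype.ext
        show ((1 + D * (y / (1 + x)) ^ 2) / (1 - D * (y / (1 + x)) ^ 2),
          2 * (y / (1 + x)) / (1 - D * (y / (1 + x)) ^ 2)) = (x, y)
        have hden' := hden (y / (1 + x))
        have key : 1 - D * (y / (1 + x)) ^ 2 = 2 / (1 + x) := by
          field_simp
          linear_combination hxy
        have key2 : 1 + D * (y / (1 + x)) ^ 2 = 2 * x / (1 + x) := by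
          field_simp
          linear_combination -hxy
        rw [key, key2]
        refine Prod.ext ?_ ?_
        · show 2 * x / (1 + x) / (2 / (1 + x)) = x
          field_simp
        · show 2 * (y / (1 + x)) / (2 / (1 + x)) = y
          field_simp
  rw [← Nat.card_congr (Equiv.ofBijective f hf), Nat.card_eq_fintype_card, Fintype.card_option]

end conic


section form

variable {K : Type*} [Field K] [Fintype K]

/-- the binary form `a² + τ a e + e²` without non-trivial zeros takes the value `1` exactly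
`q + 1` times -/
theorem card_form (τ : K) (h2 : (2 : K) ≠ 0) (H : ∀ l : K, l ^ 2 - τ * l + 1 ≠ 0) :
    Nat.card {p : K × K // p.1 ^ 2 + τ * p.1 * p.2 + p.2 ^ 2 = 1} = Fintype.card K + 1 := by
  have h4 : (4 : K) ≠ 0 := by
    have : (4 : K) = 2 * 2 := by norm_num
    rw [this]
    exact mul_ne_zero h2 h2
  have hD : ¬ IsSquare (τ ^ 2 / 4 - 1) := by
    rintro ⟨r, hr⟩
    apply H (τ / 2 + r)
    field_simp
    field_simp at hr
    linear_combination -hr
  rw [← card_conic (τ ^ 2 / 4 - 1) hD h2]
  apply Nat.card_congr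
  refine ⟨fun p => ⟨(p.1.1 + τ * p.1.2 / 2, p.1.2), ?_⟩,
    fun p => ⟨(p.1.1 - τ * p.1.2 / 2, p.1.2), ?_⟩, ?_, ?_⟩
  · have := p.2
    have e : (p.1.1 + τ * p.1.2 / 2) ^ 2 - (τ ^ 2 / 4 - 1) * p.1.2 ^ 2
        = p.1.1 ^ 2 + τ * p.1.1 * p.1.2 + p.1.2 ^ 2 := by
      field_simp
      ring
    simp only
    rw [e]
    exact this
  · have := p.2
    have e : (p.1.1 - τ * p.1.2 / 2) ^ 2 + τ * (p.1.1 - τ * p.1.2 / 2) * p.1.2 + p.1.2 ^ 2
        = p.1.1 ^ 2 - (τ ^ 2 / 4 - 1) * p.1.2 ^ 2 := by
      field_simp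
      ring
    simp only
    rw [e]
    exact this
  · rintro ⟨⟨a, e⟩, h⟩
    apply Subtype.ext
    simp
  · rintro ⟨⟨a, e⟩, h⟩
    apply Subtype.ext
    simp

end form


section sl2

variable {K : Type*} [Field K]

/-- a matrix commuting with a `2 × 2` matrix `Y` with `Y 1 0 ≠ 0` is a linear combination of `1`
and `Y` -/
theorem comm_form (Y g : Matrix (Fin 2) (Fin 2) K) (hg : g * Y = Y * g) (hc : Y 1 0 ≠ 0) :
    g = (g 0 0 - g 1 0 / Y 1 0 * Y 0 0) • (1 : Matrix (Fin 2) (Fin 2) K) + (g 1 0 / Y 1 0) • Y := by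
  have h00 := congrFun (congrFun hg 0) 0
  have h01 := congrFun (congrFun hg 0) 1
  have h10 := congrFun (congrFun hg 1) 0
  have h11 := congrFun (congrFun hg 1) 1
  simp only [Matrix.mul_apply, Fin.sum_univ_two] at h00 h01 h10 h11
  ext i j
  fin_cases i <;> fin_cases j
  · simp [Matrix.add_apply, Matrix.smul_apply]
  · simp [Matrix.add_apply, Matrix.smul_apply]
    field_simp
    linear_combination h00
  · simp [Matrix.add_apply, Matrix.smul_apply]
    field_simp
  · simp [Matrix.add_apply, Matrix.smul_apply]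
    field_simp
    linear_combination h10

local notation "SL2" => Matrix.SpecialLinearGroup (Fin 2) K

/-- the trace -/
def tr2 (y : SL2) : K := y.1 0 0 + y.1 1 1

theorem c_ne_zero (y : SL2) (H : ∀ l : K, l ^ 2 - tr2 y * l + 1 ≠ 0) : y.1 1 0 ≠ 0 := by
  intro hc
  apply H (y.1 0 0)
  have hdet := y.2
  rw [Matrix.det_fin_two, hc] at hdet
  unfold tr2
  linear_combination -hdet

theorem det_form (y : SL2) (a e : K) :
    (a • (1 : Matrix (Fin 2) (Fin 2) K) + e • y.1).det = a ^ 2 + tr2 y * a * e + e ^ 2 := by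
  have hdet := y.2
  rw [Matrix.det_fin_two] at hdet
  rw [Matrix.det_fin_two]
  unfold tr2
  simp [Matrix.add_apply, Matrix.smul_apply]
  linear_combination e ^ 2 * hdet

/-- elements commuting with `y` commute with each other -/
theorem comm_of_comm (y : SL2) (H : ∀ l : K, l ^ 2 - tr2 y * l + 1 ≠ 0) (g h : SL2)
    (hg : g * y = y * g) (hh : h * y = y * h) : g * h = h * g := by
  have hc := c_ne_zero y H
  have hg' : g.1 * y.1 = y.1 * g.1 := by
    have := congrArg Subtype.val hg
    exact this
  have hh' : h.1 * y.1 = y.1 * h.1 := by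
    have := congrArg Subtype.val hh
    exact this
  apply Subtype.ext
  show g.1 * h.1 = h.1 * g.1
  rw [comm_form y.1 g.1 hg' hc, comm_form y.1 h.1 hh' hc]
  generalize g.1 0 0 - g.1 1 0 / y.1 1 0 * y.1 0 0 = a
  generalize g.1 1 0 / y.1 1 0 = e
  generalize h.1 0 0 - h.1 1 0 / y.1 1 0 * y.1 0 0 = a'
  generalize h.1 1 0 / y.1 1 0 = e'
  simp only [add_mul, mul_add, smul_mul_assoc, mul_smul_comm, one_mul, mul_one, smul_smul,
    smul_add]
  rw [mul_comm a' a, mul_comm e' e, mul_comm e' a, mul_comm a' e]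
  abel

theorem card_centralizer [Fintype K] (y : SL2) (h2 : (2 : K) ≠ 0)
    (H : ∀ l : K, l ^ 2 - tr2 y * l + 1 ≠ 0) :
    Nat.card (Subgroup.centralizer ({y} : Set SL2)) = Fintype.card K + 1 := by
  have hc := c_ne_zero y H
  rw [← card_form (tr2 y) h2 H]
  have hval : ∀ g : SL2, g ∈ Subgroup.centralizer ({y} : Set SL2) → g.1 * y.1 = y.1 * g.1 := by
    intro g hg
    rw [Subgroup.mem_centralizer_singleton_iff] at hg
    exact congrArg Subtype.val hg
  apply Nat.card_congr
  refine ⟨fun g => ⟨(g.1.1 0 0 - g.1.1 1 0 / y.1 1 0 * y.1 0 0, g.1.1 1 0 / y.1 1 0), ?_⟩,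
    fun p => ⟨(⟨p.1.1 • (1 : Matrix (Fin 2) (Fin 2) K) + p.1.2 • y.1, ?_⟩ : SL2), ?_⟩, ?_, ?_⟩
  · have h1 := comm_form y.1 g.1.1 (hval g.1 g.2) hc
    have h3 : g.1.1.det = 1 := g.1.2
    rw [h1, det_form] at h3
    exact h3
  · rw [det_form]
    exact p.2
  · refine Subgroup.mem_centralizer_singleton_iff.2 ?_
    apply Subtype.ext
    show (p.1.1 • (1 : Matrix (Fin 2) (Fin 2) K) + p.1.2 • y.1) * y.1
      = y.1 * (p.1.1 • (1 : Matrix (Fin 2) (Fin 2) K) + p.1.2 • y.1)
    simp only [add_mul, mul_add, smul_mul_assoc, mul_smul_comm, one_mul, mul_one]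
  · intro g
    apply Subtype.ext
    apply Subtype.ext
    exact (comm_form y.1 g.1.1 (hval g.1 g.2) hc).symm
  · rintro ⟨⟨a, e⟩, h⟩
    apply Subtype.ext
    simp only [Matrix.add_apply, Matrix.smul_apply, Matrix.one_apply]
    refine Prod.ext ?_ ?_
    · simp
      field_simp
      ring
    · simp
      exact mul_div_cancel_right₀ _ hc

theorem no_root_of_order [Fintype K] [CharP K 3] (y : SL2) (s : ℕ) (hs3 : s.Coprime 3)
    (hsq : s.Coprime (Fintype.card K - 1)) (hy : y ^ s = 1) (hne : y ≠ 1) :
    ∀ l : K, l ^ 2 - tr2 y * l + 1 ≠ 0 := by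
  intro l hl
  have hd := y.2
  rw [Matrix.det_fin_two] at hd
  have hdet : (y.1 - l • (1 : Matrix (Fin 2) (Fin 2) K)).det = 0 := by
    rw [Matrix.det_fin_two]
    simp [Matrix.sub_apply, Matrix.smul_apply]
    unfold tr2 at hl
    linear_combination hl + hd
  obtain ⟨v, hv, hmv⟩ := Matrix.exists_mulVec_eq_zero_iff.2 hdet
  have hyv : y.1 *ᵥ v = l • v := by
    rw [Matrix.sub_mulVec, Matrix.smul_mulVec, Matrix.one_mulVec] at hmv
    exact sub_eq_zero.1 hmv
  have hpow : ∀ k : ℕ, (y.1 ^ k) *ᵥ v = l ^ k • v := by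
    intro k
    induction k with
    | zero => simp
    | succ k ih =>
      rw [pow_succ, ← Matrix.mulVec_mulVec, hyv, Matrix.mulVec_smul, ih, smul_smul, pow_succ,
        mul_comm]
  have hys : y.1 ^ s = 1 := by
    have := congrArg Subtype.val hy
    rw [Matrix.SpecialLinearGroup.coe_pow] at this
    exact this
  have hls : l ^ s = 1 := by
    have h1 := hpow s
    rw [hys, Matrix.one_mulVec] at h1
    obtain ⟨i, hi⟩ : ∃ i, v i ≠ 0 := by
      by_contra h
      push Not at h
      exact hv (funext h)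
    have h2 := congrFun h1 i
    rw [Pi.smul_apply, smul_eq_mul] at h2
    have h3 : (l ^ s - 1) * v i = 0 := by linear_combination -h2
    rcases mul_eq_zero.1 h3 with h | h
    · exact sub_eq_zero.1 h
    · exact absurd h hi
  have hl0 : l ≠ 0 := by
    rintro rfl
    simp at hl
  have hlq := FiniteField.pow_card_sub_one_eq_one l hl0
  have hl1 : l = 1 := by
    have := pow_gcd_eq_one.2 ⟨hls, hlq⟩
    rwa [Nat.Coprime.gcd_eq_one hsq, pow_one] at this
  subst hl1
  have htr : tr2 y = 2 := by linear_combination -hl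
  unfold tr2 at htr
  have h3K : (3 : K) = 0 := by
    have := CharP.cast_eq_zero K 3
    exact_mod_cast this
  have hsq : y.1 * y.1 = (2 : K) • y.1 - 1 := by
    ext i j
    fin_cases i <;> fin_cases j <;>
      simp [Matrix.mul_apply, Fin.sum_univ_two, Matrix.sub_apply, Matrix.smul_apply]
    · linear_combination y.1 0 0 * htr - hd
    · linear_combination y.1 0 1 * htr
    · linear_combination y.1 1 0 * htr
    · linear_combination y.1 1 1 * htr - hd
  have h3 : y.1 ^ 3 = 1 := by
    have e : y.1 ^ 3 = y.1 * y.1 * y.1 := by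
      rw [pow_succ, pow_two]
    rw [e, hsq, sub_mul, one_mul, smul_mul_assoc, hsq]
    ext i j
    fin_cases i <;> fin_cases j <;>
      simp [Matrix.sub_apply, Matrix.smul_apply]
    · linear_combination (y.1 0 0 - 1) * h3K
    · linear_combination (y.1 0 1) * h3K
    · linear_combination (y.1 1 0) * h3K
    · linear_combination (y.1 1 1 - 1) * h3K
  have hy3 : y ^ 3 = 1 := by
    apply Subtype.ext
    rw [Matrix.SpecialLinearGroup.coe_pow]
    exact h3
  have := pow_gcd_eq_one.2 ⟨hy, hy3⟩
  rw [Nat.Coprime.gcd_eq_one hs3, pow_one] at this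
  exact hne this


/-- the square roots of `1` in `SL₂(K)`, in odd characteristic -/
theorem sq_eq_one_cases (h2 : (2 : K) ≠ 0) (z : SL2) (hz : z * z = 1) : z = 1 ∨ z = -1 := by
  have hd := z.2
  rw [Matrix.det_fin_two] at hd
  have hz' : z.1 * z.1 = 1 := by
    have := congrArg Subtype.val hz
    exact this
  have h00 := congrFun (congrFun hz' 0) 0
  have h01 := congrFun (congrFun hz' 0) 1
  have h10 := congrFun (congrFun hz' 1) 0
  simp only [Matrix.mul_apply, Fin.sum_univ_two, Matrix.one_apply_eq] at h00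
  simp only [Matrix.mul_apply, Fin.sum_univ_two] at h01 h10
  rw [Matrix.one_apply_ne (by decide)] at h01 h10
  have hs : z.1 0 0 * (z.1 0 0 + z.1 1 1) = 2 := by linear_combination h00 + hd
  have hs0 : z.1 0 0 + z.1 1 1 ≠ 0 := by
    intro h
    rw [h, mul_zero] at hs
    exact h2 hs.symm
  have hb : z.1 0 1 = 0 := by
    have : z.1 0 1 * (z.1 0 0 + z.1 1 1) = 0 := by linear_combination h01
    rcases mul_eq_zero.1 this with h | h
    · exact h
    · exact absurd h hs0
  have hc : z.1 1 0 = 0 := by
    have : z.1 1 0 * (z.1 0 0 + z.1 1 1) = 0 := by linear_combination h10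
    rcases mul_eq_zero.1 this with h | h
    · exact h
    · exact absurd h hs0
  rw [hb, hc] at hd
  rw [hb] at h00
  have ha : (z.1 0 0 - 1) * (z.1 0 0 + 1) = 0 := by linear_combination h00
  have hdd : z.1 1 1 = z.1 0 0 := by
    have : z.1 0 0 * (z.1 1 1 - z.1 0 0) = 0 := by linear_combination hd - h00
    rcases mul_eq_zero.1 this with h | h
    · rw [h] at hs
      simp at hs
      exact absurd hs.symm h2
    · exact sub_eq_zero.1 h
  rcases mul_eq_zero.1 ha with h | h
  · left
    have ha1 : z.1 0 0 = 1 := sub_eq_zero.1 h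
    apply Subtype.ext
    ext i j
    fin_cases i <;> fin_cases j
    · simpa using ha1
    · simpa using hb
    · simpa using hc
    · simpa using hdd.trans ha1
  · right
    have ha1 : z.1 0 0 = -1 := by linear_combination h
    apply Subtype.ext
    ext i j
    fin_cases i <;> fin_cases j
    · simpa using ha1
    · simpa using hb
    · simpa using hc
    · simpa using hdd.trans ha1

/-- `-1 ≠ 1` in `SL₂(K)`, in odd characteristic -/
theorem neg_one_ne_one_sl2 (h2 : (2 : K) ≠ 0) : (-1 : SL2) ≠ 1 := by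
  intro h
  have h1 := congrArg (fun z : SL2 => z.1 0 0) h
  simp at h1
  apply h2
  linear_combination -h1

/-- an element of odd order of `SL₂(K)` is not conjugate to its negative -/
theorem not_conj_neg (h2 : (2 : K) ≠ 0) (y g : SL2) (s : ℕ) (hs : Odd s) (hy : y ^ s = 1)
    (h : g * y * g⁻¹ = -y) : False := by
  have h1 : (g * y * g⁻¹) ^ s = 1 := by
    rw [conj_pow, hy]
    group
  rw [h, Odd.neg_pow hs, hy] at h1
  exact neg_one_ne_one_sl2 h2 h1

/-- the centraliser in `SL₂(q)`, `q` a power of `3`, of a non-trivial element of order prime to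
`3 (q - 1)` is abelian of order `q + 1` -/
theorem sl2_cent_main [Fintype K] [CharP K 3] (y : SL2) (s : ℕ) (hs3 : s.Coprime 3)
    (hsq : s.Coprime (Fintype.card K - 1)) (hy : y ^ s = 1) (hne : y ≠ 1) :
    (∀ g h : SL2, g * y = y * g → h * y = y * h → g * h = h * g) ∧
      Nat.card (Subgroup.centralizer ({y} : Set SL2)) = Fintype.card K + 1 := by
  have H := no_root_of_order y s hs3 hsq hy hne
  have h2 : (2 : K) ≠ 0 := by
    intro h
    have h3K : (3 : K) = 0 := by
      have := CharP.cast_eq_zero K 3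
      exact_mod_cast this
    have : (1 : K) = 0 := by linear_combination h3K - h
    exact one_ne_zero this
  exact ⟨fun g h hg hh => comm_of_comm y H g h hg hh, card_centralizer y h2 H⟩

end sl2

end Cfsg.Agent.ReeTor
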