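import Cfsg.Agent.Lib.Lead.ReeTor.SplitB
import Cfsg.Agent.Lib.Lead.ReeTor.SL2Cent
import Cfsg.Agent.Lib.Helper5.Ree.Norm5
import Mathlib

/-!
# Small Ree groups: `C(y) ∩ C(t)` for an involution `t` and an element `y` of prime order dividing
`(q + 1) / 4` (lead)
-/

set_option autoImplicit false
set_option maxRecDepth 100000

namespace Cfsg.Agent.ReeTor

open Cfsg.Lie Cfsg.Agent.Lib.Helper5.Chev Cfsg.Agent.Lib.Helper5.GA Cfsg.Agent.Lib.Helper5.Tw
open Cfsg.Agent.Lib.Helper5.Frob Cfsg.Agent.Lib.Helper5.SL2P Cfsg.Agent.Lib.Helper5.Ree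
open Cfsg.Agent.ReeL Cfsg.Agent.Lib.Helper8.ReeSyl

section

variable {K : Type*} [Field K] [Fintype K] [CharP K 3] {m : ℕ}

/-- an element of odd prime order centralising the involution `a` is the image of an element of
`SL₂(K)` of the same order -/
theorem exists_lift (hK : Fintype.card K = 3 ^ (2 * m + 1)) (y : ↥(twistedG2 K (3 ^ m))) (s : ℕ)
    (hsodd : Odd s) (hys : y ^ s = 1) (hyt : aG K m * y = y * aG K m) :
    ∃ y' : Matrix.SpecialLinearGroup (Fin 2) K, phiG K m y' = y ∧ y' ^ s = 1 := by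
  obtain ⟨y₀, h0⟩ := cent_aG hK y hyt
  have hsq2 : y * y = phiG K m (y₀ * y₀) := by
    rcases h0 with h | h
    · rw [h, map_mul]
    · rw [h, map_mul, (aG_comm hK y₀).symm.mul_mul_mul_comm, aG_sq, one_mul]
  obtain ⟨k, hk⟩ := hsodd
  have hy_eq : y = phiG K m ((y₀ * y₀) ^ (k + 1)) := by
    have h1 : y = (y * y) ^ (k + 1) := by
      rw [← pow_two, ← pow_mul]
      have : 2 * (k + 1) = s + 1 := by omega
      rw [this, pow_succ, hys, one_mul]
    rw [map_pow, ← hsq2]
    exact h1
  have h1s : phiG K m (((y₀ * y₀) ^ (k + 1)) ^ s) = 1 := by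
    rw [map_pow, ← hy_eq, hys]
  rcases phiG_ker hK _ h1s with h | h
  · exact ⟨_, hy_eq.symm, h⟩
  · refine ⟨-((y₀ * y₀) ^ (k + 1)), by rw [phiG_neg hK]; exact hy_eq.symm, ?_⟩
    rw [Odd.neg_pow ⟨k, hk⟩, h, neg_neg]


/-- `C(y) ∩ C(a)` for the involution `a` of `H¹` and an element `y` of prime order `s > 3` prime to
`q - 1`: abelian of order `q + 1` and of exponent dividing `(q + 1) / 2` -/
theorem Et_struct (hK : Fintype.card K = 3 ^ (2 * m + 1)) (y : ↥(twistedG2 K (3 ^ m))) (s : ℕ)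
    (hs : s.Prime) (hs3 : 3 < s) (hsq : s.Coprime (3 ^ (2 * m + 1) - 1)) (hy : orderOf y = s)
    (hyt : aG K m * y = y * aG K m) :
    (∀ a ∈ Subgroup.centralizer ({y} : Set ↥(twistedG2 K (3 ^ m))) ⊓ Subgroup.centralizer {aG K m},
      ∀ b ∈ Subgroup.centralizer ({y} : Set ↥(twistedG2 K (3 ^ m))) ⊓
        Subgroup.centralizer {aG K m}, a * b = b * a) ∧
    Nat.card ↥(Subgroup.centralizer ({y} : Set ↥(twistedG2 K (3 ^ m))) ⊓
      Subgroup.centralizer {aG K m}) = 3 ^ (2 * m + 1) + 1 ∧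
    ∀ x ∈ Subgroup.centralizer ({y} : Set ↥(twistedG2 K (3 ^ m))) ⊓ Subgroup.centralizer {aG K m},
      x ^ ((3 ^ (2 * m + 1) + 1) / 2) = 1 := by
  have hsodd : Odd s := hs.odd_of_ne_two (by omega)
  have hy1 : y ≠ 1 := by
    rintro rfl
    rw [orderOf_one] at hy
    omega
  have hys : y ^ s = 1 := by
    rw [← hy]
    exact pow_orderOf_eq_one y
  obtain ⟨y', hφ, hy's⟩ := exists_lift hK y s hsodd hys hyt
  have hy'1 : y' ≠ 1 := by
    rintro rfl
    rw [map_one] at hφ
    exact hy1 hφ.symm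
  have h2K : (2 : K) ≠ 0 := by
    intro h
    have h3K : (3 : K) = 0 := by
      have := CharP.cast_eq_zero K 3
      exact_mod_cast this
    have : (1 : K) = 0 := by linear_combination h3K - h
    exact one_ne_zero this
  obtain ⟨hcomm, hcardC⟩ := sl2_cent_main y' s
    ((Nat.coprime_primes hs Nat.prime_three).2 (by omega)) (by rw [hK]; exact hsq) hy's hy'1
  rw [hK] at hcardC
  -- the homomorphism onto `C(y) ∩ C(a)`
  let C' : Subgroup (Matrix.SpecialLinearGroup (Fin 2) K) := Subgroup.centralizer {y'}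
  have hC'mem : ∀ g : Matrix.SpecialLinearGroup (Fin 2) K, g ∈ C' ↔ g * y' = y' * g := fun g =>
    Subgroup.mem_centralizer_singleton_iff
  let Ψ : Multiplicative (ZMod 2) × ↥C' →* ↥(twistedG2 K (3 ^ m)) :=
    (zetaHom (aG K m) aG_sq).noncommCoprod ((phiG K m).comp C'.subtype) (by
      intro i g
      rw [zetaHom_apply]
      exact (aG_comm hK _).pow_left _)
  have hΨ : ∀ (i : Multiplicative (ZMod 2)) (g : ↥C'),
      Ψ (i, g) = zetaHom (aG K m) aG_sq i * phiG K m (g : Matrix.SpecialLinearGroup (Fin 2) K) :=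
    fun i g => rfl
  -- the range
  have hrange : Ψ.range = Subgroup.centralizer ({y} : Set ↥(twistedG2 K (3 ^ m))) ⊓
      Subgroup.centralizer {aG K m} := by
    ext x
    rw [Subgroup.mem_inf, Subgroup.mem_centralizer_singleton_iff,
      Subgroup.mem_centralizer_singleton_iff]
    constructor
    · rintro ⟨⟨i, g⟩, rfl⟩
      rw [hΨ, zetaHom_apply]
      have hg := (hC'mem _).1 g.2
      have c1 : Commute (aG K m ^ (Multiplicative.toAdd i).val) y := by
        rw [← hφ]
        exact (aG_comm hK _).pow_left _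
      have c2 : Commute (phiG K m (g : Matrix.SpecialLinearGroup (Fin 2) K)) y := by
        rw [← hφ]
        show phiG K m _ * phiG K m _ = phiG K m _ * phiG K m _
        rw [← map_mul, ← map_mul, hg]
      have c3 : Commute (aG K m ^ (Multiplicative.toAdd i).val) (aG K m) :=
        (Commute.refl _).pow_left _
      have c4 : Commute (phiG K m (g : Matrix.SpecialLinearGroup (Fin 2) K)) (aG K m) :=
        (aG_comm hK _).symm
      exact ⟨(c1.mul_left c2).eq, (c3.mul_left c4).eq⟩
    · rintro ⟨hxy, hxt⟩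
      obtain ⟨g, hg⟩ := cent_aG hK x hxt.symm
      have key : ∀ g : Matrix.SpecialLinearGroup (Fin 2) K,
          phiG K m g * phiG K m y' = phiG K m y' * phiG K m g → g ∈ C' := by
        intro g hgc
        rw [hC'mem]
        rcases comm_cases hK g y' hgc with h | h
        · exact h
        · exfalso
          apply not_conj_neg h2K y' g s hsodd hy's
          rw [h]
          simp
      rcases hg with hg | hg
      · have hgC : g ∈ C' := by
          apply key
          rw [hφ, ← hg]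
          exact hxy
        refine ⟨(1, ⟨g, hgC⟩), ?_⟩
        rw [hΨ, map_one, one_mul, hg]
      · have hgC : g ∈ C' := by
          apply key
          rw [hφ]
          have h1 : aG K m * (phiG K m g * y) = aG K m * (y * phiG K m g) := by
            calc aG K m * (phiG K m g * y) = x * y := by rw [hg, mul_assoc]
              _ = y * x := hxy
              _ = y * aG K m * phiG K m g := by rw [hg, mul_assoc]
              _ = aG K m * (y * phiG K m g) := by rw [← hyt, mul_assoc]
          exact mul_left_cancel h1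
        refine ⟨(Multiplicative.ofAdd 1, ⟨g, hgC⟩), ?_⟩
        rw [hΨ, zetaHom_apply_one, hg]
  -- the kernel
  have hneg1 : (-1 : Matrix.SpecialLinearGroup (Fin 2) K) ∈ C' := by
    rw [hC'mem]
    simp
  have hker : (Ψ.ker : Set (Multiplicative (ZMod 2) × ↥C'))
      = {(1, 1), (1, ⟨-1, hneg1⟩)} := by
    ext ⟨i, g⟩
    rw [SetLike.mem_coe, MonoidHom.mem_ker, hΨ]
    constructor
    · intro h
      rcases zmod2_cases i with rfl | rfl
      · rw [map_one, one_mul] at h
        rcases phiG_ker hK _ h with h' | h'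
        · left
          exact Prod.ext rfl (Subtype.ext h')
        · right
          exact Prod.ext rfl (Subtype.ext h')
      · exfalso
        rw [zetaHom_apply_one] at h
        exact aG_mul_ne hK _ h
    · rintro (h | h)
      · obtain ⟨rfl, rfl⟩ := Prod.mk.inj h
        simp
      · obtain ⟨rfl, rfl⟩ := Prod.mk.inj h
        rw [map_one, one_mul]
        exact phiG_neg_one hK
  have hkcard : Nat.card Ψ.ker = 2 := by
    have h1 : Nat.card Ψ.ker = Set.ncard (Ψ.ker : Set (Multiplicative (ZMod 2) × ↥C')) :=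
      (Nat.card_coe_set_eq _)
    rw [h1, hker, Set.ncard_pair]
    intro h
    have h2 := congrArg (fun p : Multiplicative (ZMod 2) × ↥C' =>
      ((p.2 : Matrix.SpecialLinearGroup (Fin 2) K))) h
    simp only at h2
    exact neg_one_ne_one_sl2 h2K h2.symm
  have hfinC : Finite ↥C' := Nat.finite_of_card_ne_zero (by
    show Nat.card ↥(Subgroup.centralizer {y'}) ≠ 0
    rw [hcardC]
    omega)
  have hdom : Nat.card (Multiplicative (ZMod 2) × ↥C') = 2 * (3 ^ (2 * m + 1) + 1) := by
    rw [Nat.card_prod]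
    congr 1
    simp
  have hrc : Nat.card Ψ.range = 3 ^ (2 * m + 1) + 1 := by
    have h1 := Subgroup.card_mul_index Ψ.ker
    rw [Subgroup.index_ker, hkcard, hdom] at h1
    omega
  -- the domain is commutative
  have hdc : ∀ p p' : Multiplicative (ZMod 2) × ↥C', p * p' = p' * p := by
    rintro ⟨i, g⟩ ⟨i', g'⟩
    refine Prod.ext (mul_comm _ _) (Subtype.ext ?_)
    exact hcomm _ _ ((hC'mem _).1 g.2) ((hC'mem _).1 g'.2)
  rw [← hrange]
  refine ⟨?_, hrc, ?_⟩
  · rintro _ ⟨p, rfl⟩ _ ⟨p', rfl⟩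
    rw [← map_mul, ← map_mul, hdc]
  · rintro _ ⟨⟨i, g⟩, rfl⟩
    rw [← map_pow]
    have h8 := q_mod8 m
    obtain ⟨r, hr⟩ : ∃ r, (3 ^ (2 * m + 1) + 1) / 2 = 2 * r := ⟨(3 ^ (2 * m + 1) + 1) / 4, by omega⟩
    have hi : i ^ ((3 ^ (2 * m + 1) + 1) / 2) = 1 := by
      rw [hr, pow_mul, pow_two, zmod2_mul_self, one_pow]
    have hgq : g ^ (3 ^ (2 * m + 1) + 1) = 1 := by
      have := pow_card_eq_one' (G := ↥C') (x := g)
      have e : Nat.card ↥C' = 3 ^ (2 * m + 1) + 1 := hcardC
      rwa [e] at this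
    have hz : (g : Matrix.SpecialLinearGroup (Fin 2) K) ^ ((3 ^ (2 * m + 1) + 1) / 2)
        * (g : Matrix.SpecialLinearGroup (Fin 2) K) ^ ((3 ^ (2 * m + 1) + 1) / 2) = 1 := by
      rw [← pow_add]
      have e : (3 ^ (2 * m + 1) + 1) / 2 + (3 ^ (2 * m + 1) + 1) / 2 = 3 ^ (2 * m + 1) + 1 := by
        omega
      rw [e]
      have := congrArg (Subtype.val : ↥C' → Matrix.SpecialLinearGroup (Fin 2) K) hgq
      rw [Subgroup.coe_pow] at this
      exact this
    have hpow : (i, g) ^ ((3 ^ (2 * m + 1) + 1) / 2)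
        = (i ^ ((3 ^ (2 * m + 1) + 1) / 2), g ^ ((3 ^ (2 * m + 1) + 1) / 2)) := rfl
    rw [hpow, hΨ, hi, map_one, one_mul, Subgroup.coe_pow]
    rcases sq_eq_one_cases h2K _ hz with h | h
    · rw [h, map_one]
    · rw [h]
      exact phiG_neg_one hK

end

end Cfsg.Agent.ReeTor
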