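import Cfsg.Agent.Lib.Lead.ReeOdd
import Cfsg.Agent.Lib.Lead.ReeTI
import Cfsg.Agent.Lib.Helper5.Ree.Cent4
import Cfsg.Agent.Lib.Helper5.Ree.Order
import Cfsg.Agent.Lib.Helper5.Ree.AutB
import Mathlib

/-!
# The centraliser of an element of odd order of `H¹` in the small Ree group (lead)
-/

set_option autoImplicit false
set_option maxRecDepth 100000

namespace Cfsg.Agent.ReeTor

open Cfsg.Lie Cfsg.Agent.Lib.Helper5.Chev Cfsg.Agent.Lib.Helper5.GA Cfsg.Agent.Lib.Helper5.Tw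
open Cfsg.Agent.Lib.Helper5.Frob Cfsg.Agent.Lib.Helper5.SL2P Cfsg.Agent.Lib.Helper5.Ree
open Cfsg.Agent.ReeL

section

variable {K : Type*} [Field K] [Fintype K] [CharP K 3] {m : ℕ}

/-- the monomial element `w` of the pair inverts `H¹` -/
theorem PPw_conj_tauT (hK : Fintype.card K = 3 ^ (2 * m + 1)) (μ : Kˣ) :
    (PP K m).w 1 * tauT K m μ * ((PP K m).w 1)⁻¹ = (tauT K m μ)⁻¹ := by
  have hsq : ∀ y : Kˣ, (PP K m).w 1 * tauT K m (y ^ 2) * ((PP K m).w 1)⁻¹
      = (tauT K m (y ^ 2))⁻¹ := by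
    intro y
    rw [sq_eq_muU hK y, ← PP_h hK, (PP K m).w_conj_h _ (Units.ne_zero _),
      (PP K m).h_inv _ (Units.ne_zero _)]
  obtain ⟨y, h | h⟩ := exists_pm_sq hK μ
  · rw [h]
    exact hsq y
  · have e : tauT K m μ = zz K m * tauT K m (y ^ 2) := by
      rw [h]
      unfold zz
      rw [← map_mul]
      congr 1
      rw [neg_one_mul]
    have hz := mono_conj_zz hK _ (PP_w_one_mono (K := K) (m := m)) (PP_w_mem 1)
    have hcomm : zz K m * tauT K m (y ^ 2) = tauT K m (y ^ 2) * zz K m := by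
      unfold zz
      rw [← map_mul, ← map_mul, mul_comm]
    calc (PP K m).w 1 * tauT K m μ * ((PP K m).w 1)⁻¹
        = ((PP K m).w 1 * zz K m * ((PP K m).w 1)⁻¹) *
          ((PP K m).w 1 * tauT K m (y ^ 2) * ((PP K m).w 1)⁻¹) := by
          rw [e]
          group
      _ = zz K m * (tauT K m (y ^ 2))⁻¹ := by rw [hz, hsq y]
      _ = (tauT K m μ)⁻¹ := by
          rw [e, hcomm, mul_inv_rev, zz_inv]

/-- `n₁` inverts `H¹` -/
theorem n1_conj_tauT (hK : Fintype.card K = 3 ^ (2 * m + 1)) (μ : Kˣ) :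
    n1 hK * tauT K m μ * (n1 hK)⁻¹ = (tauT K m μ)⁻¹ := by
  have hw1 : (PP K m).w 1 ∉ chevG2.diagonalSubgroup K := fun h =>
    PP_w_not_borel (K := K) (m := m) (Subgroup.mem_sup_right h)
  have hd : (n1 hK)⁻¹ * (PP K m).w 1 ∈ chevG2.diagonalSubgroup K := by
    rcases mono_fix_cases' hK _ (PP_w_one_mono (K := K) (m := m))
      (twisted_le_fixR hK (PP_w_mem 1)) with h | h
    · exact absurd h hw1
    · exact h
  have hdt : (n1 hK)⁻¹ * (PP K m).w 1 ∈ twistedG2 K (3 ^ m) :=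
    Subgroup.mul_mem _ (Subgroup.inv_mem _ (n1_twisted hK)) (PP_w_mem 1)
  obtain ⟨ν, hν⟩ := (mem_diag_twisted_iff hK _).1 ⟨hd, hdt⟩
  have e : n1 hK = (PP K m).w 1 * (tauT K m ν)⁻¹ := by
    rw [hν]
    group
  have hcomm : (tauT K m ν)⁻¹ * tauT K m μ * tauT K m ν = tauT K m μ := by
    rw [← map_inv, ← map_mul, ← map_mul]
    congr 1
    rw [mul_comm, ← mul_assoc, mul_inv_cancel, one_mul]
  calc n1 hK * tauT K m μ * (n1 hK)⁻¹
      = (PP K m).w 1 * ((tauT K m ν)⁻¹ * tauT K m μ * tauT K m ν) * ((PP K m).w 1)⁻¹ := by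
        rw [e]
        group
    _ = (tauT K m μ)⁻¹ := by rw [hcomm, PPw_conj_tauT hK]


/-- the centraliser in the small Ree group of a non-trivial element of odd order of `H¹` lies in
`H¹` -/
theorem cent_tauT (hK : Fintype.card K = 3 ^ (2 * m + 1)) (μ : Kˣ) (hμ : μ ≠ 1)
    (hodd : Odd (orderOf μ)) (g : GL chevG2.Idx K) (hg : g ∈ twistedG2 K (3 ^ m))
    (hc : g * tauT K m μ = tauT K m μ * g) : g ∈ chevG2.diagonalSubgroup K := by
  have hHB : chevG2.diagonalSubgroup K ≤ chevG2.borelSubgroup K := le_sup_right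
  have hh₀d : tauT K m μ ∈ chevG2.diagonalSubgroup K ⊓ twistedG2 K (3 ^ m) :=
    (mem_diag_twisted_iff hK _).2 ⟨μ, rfl⟩
  have hh₀1 : tauT K m μ ≠ 1 := fun h =>
    hμ (tauT_injective (K := K) (m := m) (h.trans (map_one _).symm))
  have hh₀odd : Odd (orderOf (tauT K m μ)) := by
    rw [orderOf_injective (tauT K m) tauT_injective μ]
    exact hodd
  have hcent := pos_inf_centralizer hK _ hh₀d hh₀1 hh₀odd
  rcases twisted_cases hK g hg with ⟨u, hu, h, hh, rfl⟩ | ⟨u, hu, h, hh, u', hu', rfl⟩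
  · obtain ⟨ν, rfl⟩ := (mem_diag_twisted_iff hK h).1 hh
    have hcomm : tauT K m ν * tauT K m μ = tauT K m μ * tauT K m ν := by
      rw [← map_mul, ← map_mul, mul_comm]
    have hu1 : u ∈ Subgroup.centralizer {tauT K m μ} := by
      rw [Subgroup.mem_centralizer_singleton_iff]
      have : u * tauT K m μ * tauT K m ν = tauT K m μ * u * tauT K m ν := by
        calc u * tauT K m μ * tauT K m ν = u * tauT K m ν * tauT K m μ := by
              rw [mul_assoc, ← hcomm, ← mul_assoc]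
          _ = tauT K m μ * (u * tauT K m ν) := hc
          _ = _ := by group
      exact mul_right_cancel this
    have hmem : u ∈ (chevG2.posUnipotent K ⊓ twistedG2 K (3 ^ m)) ⊓
        Subgroup.centralizer {tauT K m μ} := ⟨hu, hu1⟩
    rw [hcent, Subgroup.mem_bot] at hmem
    rw [hmem, one_mul]
    exact hh.1
  · exfalso
    obtain ⟨ν, rfl⟩ := (mem_diag_twisted_iff hK h).1 hh
    have hinv := n1_conj_tauT hK μ
    have hinv' : n1 hK * (tauT K m μ)⁻¹ = tauT K m μ * n1 hK := by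
      have : n1 hK * (tauT K m μ)⁻¹ * (n1 hK)⁻¹ = tauT K m μ := by
        have e : n1 hK * (tauT K m μ)⁻¹ * (n1 hK)⁻¹
            = (n1 hK * tauT K m μ * (n1 hK)⁻¹)⁻¹ := by group
        rw [e, hinv, inv_inv]
      exact mul_inv_eq_iff_eq_mul.1 this
    have hμB : tauT K m μ ∈ chevG2.borelSubgroup K := hHB hh₀d.1
    have m1 : tauT K m ν * tauT K m μ ∈ chevG2.diagonalSubgroup K ⊓ twistedG2 K (3 ^ m) :=
      Subgroup.mul_mem _ hh hh₀d
    have m2 : (tauT K m μ)⁻¹ * u' * tauT K m μ ∈ chevG2.posUnipotent K ⊓ twistedG2 K (3 ^ m) := by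
      refine ⟨?_, Subgroup.mul_mem _ (Subgroup.mul_mem _ (Subgroup.inv_mem _ hh₀d.2) hu'.2) hh₀d.2⟩
      have := (borel_conj_pos (tauT K m μ)⁻¹ u' (Subgroup.inv_mem _ hμB)).1 hu'.1
      rwa [inv_inv] at this
    have m3 : tauT K m μ * u * (tauT K m μ)⁻¹ ∈ chevG2.posUnipotent K ⊓ twistedG2 K (3 ^ m) :=
      ⟨(borel_conj_pos (tauT K m μ) u hμB).1 hu.1,
        Subgroup.mul_mem _ (Subgroup.mul_mem _ hh₀d.2 hu.2) (Subgroup.inv_mem _ hh₀d.2)⟩
    have m4 : (tauT K m μ)⁻¹ * tauT K m ν ∈ chevG2.diagonalSubgroup K ⊓ twistedG2 K (3 ^ m) :=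
      Subgroup.mul_mem _ (Subgroup.inv_mem _ hh₀d) hh
    have hcell : cellMap hK (Sum.inr (⟨u, hu⟩, ⟨_, m1⟩, ⟨_, m2⟩))
        = cellMap hK (Sum.inr (⟨_, m3⟩, ⟨_, m4⟩, ⟨u', hu'⟩)) := by
      apply Subtype.ext
      show u * n1 hK * (tauT K m ν * tauT K m μ) * ((tauT K m μ)⁻¹ * u' * tauT K m μ)
        = tauT K m μ * u * (tauT K m μ)⁻¹ * n1 hK * ((tauT K m μ)⁻¹ * tauT K m ν) * u'
      have e1 : u * n1 hK * (tauT K m ν * tauT K m μ) * ((tauT K m μ)⁻¹ * u' * tauT K m μ)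
          = u * n1 hK * tauT K m ν * u' * tauT K m μ := by group
      have e2 : tauT K m μ * u * (tauT K m μ)⁻¹ * n1 hK * ((tauT K m μ)⁻¹ * tauT K m ν) * u'
          = tauT K m μ * u * (tauT K m μ)⁻¹ * (n1 hK * (tauT K m μ)⁻¹) * tauT K m ν * u' := by
        group
      rw [e1, e2, hinv', hc]
      group
    have h1 := Sum.inr.inj ((cellMap_bijective hK).1 hcell)
    have h2 := congrArg (fun p => (p.2.1 : GL chevG2.Idx K)) h1
    simp only at h2
    -- `ν μ = μ⁻¹ ν`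
    rw [← map_mul, ← map_inv, ← map_mul] at h2
    have h3 := tauT_injective (K := K) (m := m) h2
    have h4 : μ * μ = 1 := by
      have : ν * μ * μ = ν := by
        rw [h3]
        rw [mul_comm μ⁻¹ ν, mul_assoc, inv_mul_cancel, mul_one]
      have h5 : ν * (μ * μ) = ν * 1 := by rw [mul_one, ← mul_assoc]; exact this
      exact mul_left_cancel h5
    have h5 : orderOf μ ∣ 2 := orderOf_dvd_of_pow_eq_one (by rw [pow_two]; exact h4)
    have h6 : orderOf μ = 1 := by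
      have := Nat.le_of_dvd (by norm_num) h5
      rcases hodd with ⟨k, hk⟩
      omega
    exact hμ (orderOf_eq_one_iff.1 h6)

end

end Cfsg.Agent.ReeTor
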