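import Cfsg.Agent.Lib.Lead.ReeTor.SplitA
import Cfsg.Agent.Lib.Helper8.ReeSyl.Main
import Mathlib

/-!
# Centralisers of elements of prime order dividing `(q - 1) / 2` in the small Ree group (lead)
-/

set_option autoImplicit false
set_option maxRecDepth 100000

namespace Cfsg.Agent.ReeTor

open Cfsg.Lie Cfsg.Agent.Lib.Helper5.Chev Cfsg.Agent.Lib.Helper5.GA Cfsg.Agent.Lib.Helper5.Tw
open Cfsg.Agent.Lib.Helper5.Frob Cfsg.Agent.Lib.Helper5.SL2P Cfsg.Agent.Lib.Helper5.Ree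
open Cfsg.Agent.ReeL Cfsg.Agent.Lib.Helper8.ReeSyl
open scoped Pointwise

section general

/-- conjugating a `p`-element into a subgroup carrying the full `p`-part of the order -/
theorem conj_mem_of_fact {G : Type*} [Group G] [Finite G] (p : ℕ) [Fact p.Prime] (H : Subgroup G)
    (hv : (Nat.card G).factorization p = (Nat.card H).factorization p) (y : G)
    (hy : IsPGroup p (Subgroup.zpowers y)) : ∃ g : G, g⁻¹ * y * g ∈ H := by
  classical
  have S₀ : Sylow p H := default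
  let S : Subgroup G := (S₀ : Subgroup H).map H.subtype
  have eS : (S₀ : Subgroup H) ≃* S :=
    (S₀ : Subgroup H).equivMapOfInjective H.subtype H.subtype_injective
  have hScard : Nat.card S = p ^ (Nat.card G).factorization p := by
    rw [hv, ← Sylow.card_eq_multiplicity S₀]
    exact Nat.card_congr eS.symm.toEquiv
  let T : Sylow p G := Sylow.ofCard S hScard
  obtain ⟨R, hR⟩ := hy.exists_le_sylow
  obtain ⟨g, hg⟩ := MulAction.exists_smul_eq G T R
  refine ⟨g, ?_⟩
  have hyR : y ∈ (R : Subgroup G) := hR (Subgroup.mem_zpowers y)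
  have h1 : y ∈ MulAut.conj g • (T : Subgroup G) := by
    rw [← hg] at hyR
    exact hyR
  rw [Subgroup.mem_pointwise_smul_iff_inv_smul_mem, MulAut.smul_def, MulAut.conj_inv_apply] at h1
  have h2 : g⁻¹ * y * g ∈ S := h1
  obtain ⟨x, -, hx⟩ := Subgroup.mem_map.1 h2
  rw [← hx]
  exact x.2

theorem isPGroup_zpowers_of_orderOf {G : Type*} [Group G] (p : ℕ) [Fact p.Prime] (y : G)
    (hy : orderOf y = p) : IsPGroup p (Subgroup.zpowers y) := by
  apply IsPGroup.of_card (n := 1)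
  rw [Nat.card_zpowers, hy, pow_one]

end general

section arith

theorem q_mod8 (m : ℕ) : 3 ^ (2 * m + 1) % 8 = 3 := by
  induction m with
  | zero => rfl
  | succ k ih =>
    have : 3 ^ (2 * (k + 1) + 1) = 9 * 3 ^ (2 * k + 1) := by ring
    omega

theorem q_mod3 (m : ℕ) : 3 ^ (2 * m + 1) % 3 = 0 := by
  have : 3 ^ (2 * m + 1) = 3 * 3 ^ (2 * m) := by ring
  omega

theorem prime_gt_three_of_dvd_half {m s : ℕ} (hs : s.Prime) (h : s ∣ (3 ^ (2 * m + 1) - 1) / 2) :
    3 < s := by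
  have h8 := q_mod8 m
  have h3 := q_mod3 m
  generalize 3 ^ (2 * m + 1) = q at h h8 h3
  have h2 : s ≠ 2 := by
    rintro rfl
    omega
  have h3' : s ≠ 3 := by
    rintro rfl
    omega
  have := hs.two_le
  omega

theorem prime_gt_three_of_dvd_quarter {m s : ℕ} (hs : s.Prime)
    (h : s ∣ (3 ^ (2 * m + 1) + 1) / 4) : 3 < s := by
  have h8 := q_mod8 m
  have h3 := q_mod3 m
  generalize 3 ^ (2 * m + 1) = q at h h8 h3
  have h2 : s ≠ 2 := by
    rintro rfl
    omega
  have h3' : s ≠ 3 := by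
    rintro rfl
    omega
  have := hs.two_le
  omega

end arith


section fact

variable {K : Type*} [Field K] [Fintype K] [CharP K 3] {m : ℕ}

theorem card_HH1 (hK : Fintype.card K = 3 ^ (2 * m + 1)) :
    Nat.card (HH1 K m) = 3 ^ (2 * m + 1) - 1 := by
  rw [Nat.card_congr (Subgroup.subgroupOfEquivOfLe
    (inf_le_right : chevG2.diagonalSubgroup K ⊓ twistedG2 K (3 ^ m) ≤ _)).toEquiv,
    card_diag_twisted hK]

theorem isCyclic_HH1 (hK : Fintype.card K = 3 ^ (2 * m + 1)) : IsCyclic (HH1 K m) := by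
  have eH : HH1 K m ≃* ↥(chevG2.diagonalSubgroup K ⊓ twistedG2 K (3 ^ m)) :=
    Subgroup.subgroupOfEquivOfLe inf_le_right
  have hcyc0 : IsCyclic ↥(chevG2.diagonalSubgroup K ⊓ twistedG2 K (3 ^ m)) := by
    have := isCyclic_diag_fixed hK
    have hle : chevG2.diagonalSubgroup K ⊓ twistedG2 K (3 ^ m)
        ≤ chevG2.diagonalSubgroup K ⊓ fixR hK :=
      inf_le_inf_left _ (twisted_le_fixR hK)
    exact isCyclic_of_injective (Subgroup.inclusion hle) (Subgroup.inclusion_injective hle)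
  exact isCyclic_of_injective eH.toMonoidHom eH.injective

/-- the `s`-part of the order of the small Ree group, `s ∣ q - 1` -/
theorem fact_split (hK : Fintype.card K = 3 ^ (2 * m + 1)) (s : ℕ) [Fact s.Prime] (hs3 : 3 < s)
    (hsd : s ∣ 3 ^ (2 * m + 1) - 1) :
    (Nat.card ↥(twistedG2 K (3 ^ m))).factorization s = (Nat.card (HH1 K m)).factorization s := by
  have hpp : s.Prime := Fact.out
  have hcard := card_twisted hK
  rw [card_HH1 hK, hcard]
  generalize hq : 3 ^ (2 * m + 1) = q at hsd ⊢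
  have hq3 : 3 ≤ q := by
    rw [← hq]
    calc 3 = 3 ^ 1 := by norm_num
      _ ≤ 3 ^ (2 * m + 1) := Nat.pow_le_pow_right (by norm_num) (by omega)
  have hq1 : 1 ≤ q := by omega
  have hpq : ¬ s ∣ q := by
    intro h
    rw [← hq] at h
    have := Nat.le_of_dvd (by norm_num) (hpp.dvd_of_dvd_pow h)
    omega
  have hq30 : q ^ 3 ≠ 0 := by positivity
  have hqm0 : q - 1 ≠ 0 := by omega
  have hqc0 : q ^ 3 + 1 ≠ 0 := by positivity
  have hx : (q : ZMod s) = 1 := (dvd_pred_iff q hq1).1 hsd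
  have hn3 : ¬ s ∣ q ^ 3 + 1 := by
    rw [← ZMod.natCast_eq_zero_iff]
    push_cast
    rw [hx]
    intro h'
    apply zmod_two_ne hs3
    linear_combination h'
  rw [fact_mul_right (mul_ne_zero hq30 hqm0) hqc0 hn3,
    fact_mul_left hq30 hqm0 (fun h' => hpq (hpp.dvd_of_dvd_pow h'))]


/-- the centraliser of an element of prime order dividing `(q - 1) / 2` is a conjugate of `H¹` -/
theorem split_cent (hK : Fintype.card K = 3 ^ (2 * m + 1)) (a : ↥(twistedG2 K (3 ^ m))) (s : ℕ)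
    (hs : s.Prime) (hsd : s ∣ (3 ^ (2 * m + 1) - 1) / 2) (ha : orderOf a = s) :
    ∃ g : ↥(twistedG2 K (3 ^ m)), ∀ x : ↥(twistedG2 K (3 ^ m)),
      x ∈ Subgroup.centralizer ({a} : Set ↥(twistedG2 K (3 ^ m))) ↔ g⁻¹ * x * g ∈ HH1 K m := by
  have : Fact s.Prime := ⟨hs⟩
  have hs3 := prime_gt_three_of_dvd_half hs hsd
  have hsd' : s ∣ 3 ^ (2 * m + 1) - 1 := dvd_trans hsd (Nat.div_dvd_of_dvd (by
    have := q_mod8 m
    omega))
  have hfin := Cfsg.Agent.ReeL.finite_twisted (K := K) (m := m) hK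
  obtain ⟨g, hg⟩ := conj_mem_of_fact s (HH1 K m) (fact_split hK s hs3 hsd') a
    (isPGroup_zpowers_of_orderOf s a ha)
  refine ⟨g, fun x => ?_⟩
  rw [mem_HH1] at hg
  obtain ⟨μ, hμ⟩ := (mem_diag_twisted_iff hK _).1 ⟨hg, (g⁻¹ * a * g).2⟩
  have hoμ : orderOf μ = s := by
    rw [← orderOf_injective (tauT K m) tauT_injective μ, hμ, Subgroup.orderOf_coe, ← ha]
    have := (MulAut.conj g⁻¹).orderOf_eq a
    rw [MulAut.conj_apply, inv_inv] at this
    exact this
  have hμ1 : μ ≠ 1 := by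
    rintro rfl
    rw [orderOf_one] at hoμ
    omega
  have hodd : Odd (orderOf μ) := by
    rw [hoμ]
    exact hs.odd_of_ne_two (by omega)
  rw [Subgroup.mem_centralizer_singleton_iff, mem_HH1]
  constructor
  · intro hx
    apply cent_tauT hK μ hμ1 hodd _ (g⁻¹ * x * g).2
    rw [hμ]
    have e : (g⁻¹ * x * g) * (g⁻¹ * a * g) = (g⁻¹ * a * g) * (g⁻¹ * x * g) := by
      have e1 : (g⁻¹ * x * g) * (g⁻¹ * a * g) = g⁻¹ * (x * a) * g := by group
      have e2 : (g⁻¹ * a * g) * (g⁻¹ * x * g) = g⁻¹ * (a * x) * g := by group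
      rw [e1, e2, hx]
    exact congrArg Subtype.val e
  · intro hx
    obtain ⟨ν, hν⟩ := (mem_diag_twisted_iff hK _).1 ⟨hx, (g⁻¹ * x * g).2⟩
    have e : (g⁻¹ * x * g) * (g⁻¹ * a * g) = (g⁻¹ * a * g) * (g⁻¹ * x * g) := by
      apply Subtype.ext
      show ((g⁻¹ * x * g : ↥(twistedG2 K (3 ^ m))) : GL chevG2.Idx K) *
        ((g⁻¹ * a * g : ↥(twistedG2 K (3 ^ m))) : GL chevG2.Idx K)
        = ((g⁻¹ * a * g : ↥(twistedG2 K (3 ^ m))) : GL chevG2.Idx K) *
          ((g⁻¹ * x * g : ↥(twistedG2 K (3 ^ m))) : GL chevG2.Idx K)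
      rw [← hν, ← hμ, ← map_mul, ← map_mul, mul_comm]
    have e1 : x * a = g * ((g⁻¹ * x * g) * (g⁻¹ * a * g)) * g⁻¹ := by group
    have e2 : a * x = g * ((g⁻¹ * a * g) * (g⁻¹ * x * g)) * g⁻¹ := by group
    rw [e1, e2, e]

end fact

section transport

variable {G : Type*} [Group G]

/-- a subgroup described as a conjugate -/
noncomputable def conjEquiv (C H : Subgroup G) (g : G) (h : ∀ x, x ∈ C ↔ g⁻¹ * x * g ∈ H) :
    C ≃* H where
  toFun x := ⟨g⁻¹ * x * g, (h x).1 x.2⟩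
  invFun y := ⟨g * y * g⁻¹, (h _).2 (by
    have : g⁻¹ * (g * (y : G) * g⁻¹) * g = y := by group
    rw [this]
    exact y.2)⟩
  left_inv x := by
    apply Subtype.ext
    show g * (g⁻¹ * (x : G) * g) * g⁻¹ = x
    group
  right_inv y := by
    apply Subtype.ext
    show g⁻¹ * (g * (y : G) * g⁻¹) * g = y
    group
  map_mul' x y := by
    apply Subtype.ext
    show g⁻¹ * ((x : G) * y) * g = g⁻¹ * x * g * (g⁻¹ * y * g)
    group

end transport

end Cfsg.Agent.ReeTor
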